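import Groth.Agent.IntSym.Num
import Groth.Agent.IntSym.Curves
import Groth.Agent.NakaiMo.Main
import Groth.Agent.HilbPoly.Pos
import Groth.Agent.VolLib.Growth
import Groth.Agent.NefTest.Devissage
import Groth.Agent.AmpleVan.Pull

/-!
# Symbols: restriction to subschemes, devissage, cutting by an ample module
-/

noncomputable section

set_option autoImplicit false
set_option linter.style.haveILetI false
set_option linter.unusedSectionVars false
set_option backward.isDefEq.respectTransparency false
set_option backward.isDefEq.respectTransparency.types false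

universe u
open CategoryTheory CategoryTheory.Limits AlgebraicGeometry TopologicalSpace
open Groth.Agent.H23.PicMul
open Groth.Agent.IntSym (sym Inv)

namespace Groth.Agent.BigMono

variable (k : Type u) [Field k] {X : Scheme.{u}} [X.Over (Spec (CommRingCat.of k))]
  [IsProper (X ↘ Spec (CommRingCat.of k))]

theorem support_structure [IsIntegral X] : CohB1.support (Coh.structureModule X) = Set.univ :=
  Set.eq_univ_of_forall fun x h => by
    haveI : Subsingleton ((Coh.structureModule X).presheaf.stalk x) := h
    exact not_subsingleton (X.presheaf.stalk x) ((LinearEquiv.ofBijective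
      (LinearMap.toSpanSingleton (X.presheaf.stalk x) ((Coh.structureModule X).presheaf.stalk x) (H23.UnitSec.one x))
      ⟨fun a b e => sub_eq_zero.1 (H23.UnitSec.eq_zero_of_smul_one (a - b) (by rw [sub_smul]; exact sub_eq_zero.2 e)),
        fun m => Submodule.mem_span_singleton.1 ((H23.UnitSec.span_one x).ge (Submodule.mem_top : m ∈ ⊤))⟩).toEquiv.subsingleton)

theorem dim_support_structure [IsIntegral X] :
    topologicalKrullDim ↥(CohB1.support (Coh.structureModule X)) = topologicalKrullDim X := by
  rw [support_structure]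
  exact (Homeomorph.Set.univ X).isHomeomorph.topologicalKrullDim_eq

include k in
/-- The support of the structure module of a closed subvariety has its dimension. -/
theorem dim_support_push {W : Scheme.{u}} (i : W ⟶ X) [IsClosedImmersion i] [IsIntegral W] :
    topologicalKrullDim ↥(CohB1.support ((Coh.push i).obj (Coh.structureModule W))) = topologicalKrullDim W := by
  haveI := CurveCohLib.isNoetherian_of_proper (k := k) (X := X)
  refine (IntSym.dim_eq_of_range i (Set.Subset.antisymm ?_
    (QCoh.support_push_subset i QCoh.isQCoh_structureModule))).symm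
  rintro _ ⟨z, rfl⟩ hz
  haveI : Subsingleton (((Coh.push i).obj (Coh.structureModule W)).presheaf.stalk (i z)) := hz
  have h := H23.ClosedPushLen.length_stalk i (Coh.structureModule W) z
  rw [Module.length_eq_zero, H23.ClosedPushLen.length_structureModule] at h
  exact absurd (Module.length_eq_zero_iff.1 h.symm) (not_subsingleton _)

/-- Symbols on a closed subscheme, computed upstairs. -/
theorem sym_push {Z : Scheme.{u}} (i : Z ⟶ X) [IsClosedImmersion i] [Z.Over (Spec (CommRingCat.of k))]
    [IsProper (Z ↘ Spec (CommRingCat.of k))] (hi : i ≫ (X ↘ Spec (CommRingCat.of k)) = Z ↘ Spec (CommRingCat.of k))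
    {l : List X.Modules} (hl : Inv l) {M : Z.Modules} (hM : Coh.IsCoh M) :
    sym k (l.map (Scheme.Modules.pullback i).obj) M = sym k l ((Coh.push i).obj M) := by
  have hL : ∀ j, PicF.IsInvertible (l.get j) := fun j => hl _ (List.get_mem l j)
  have key : (sym k (List.ofFn fun j => (Scheme.Modules.pullback i).obj (l.get j)) M : ℚ) =
      (sym k (List.ofFn l.get) ((Coh.push i).obj M) : ℚ) := by
    rw [← IntSym.alt_eq_sym k (fun j => (Scheme.Modules.pullback i).obj (l.get j))
        (fun j => PicClLib.isInvertible_pullback i (hL j)),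
      ← IntSym.alt_eq_sym k l.get hL]
    refine IntNum.alt_congr fun n => ?_
    unfold Snapper.χs
    refine congrArg (fun z : ℤ => (z : ℚ)) ?_
    exact IntNum.euler_tensorPows_push k i hi hM l.get hL n
  have h1 : (List.ofFn fun j => (Scheme.Modules.pullback i).obj (l.get j)) =
      l.map (Scheme.Modules.pullback i).obj := by
    conv_rhs => rw [← List.ofFn_get l]
    rw [List.map_ofFn]
    rfl
  rw [h1, List.ofFn_get] at key
  exact_mod_cast key

/-- Non-negativity on the subvarieties of dimension `d` gives it on all coherent modules. -/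
theorem nonneg_of_integral {l : List X.Modules} (hl : Inv l) {d : ℕ} (hlen : l.length = d)
    (h : ∀ (Z : Scheme.{u}) (i : Z ⟶ X) [IsClosedImmersion i] [IsIntegral Z], topologicalKrullDim Z = d →
      0 ≤ sym k l ((Coh.push i).obj (Coh.structureModule Z)))
    {M : X.Modules} (hM : Coh.IsCoh M) (hd : topologicalKrullDim ↥(CohB1.support M) ≤ (d : WithBot ℕ∞)) :
    0 ≤ sym k l M := by
  haveI := CurveCohLib.isNoetherian_of_proper (k := k) (X := X)
  have hA := IntSym.additive_sym k hl
  have hsmall : ∀ G : X.Modules, Coh.IsCoh G → HilbPoly.DimLT G d → sym k l G = 0 := fun G hG hdG =>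
    IntSym.sym_eq_zero k hl hG (by rw [hlen]; exact hdG)
  induction QCoh.filt_of_isCoh hM with
  | @zero N h0 => exact (hA.zero_of_isZero h0).ge
  | @step N M' φ _ _ hNc hMc hex ih =>
    obtain ⟨Z, i, hi, hZ, I, ι, hι, hI, hI0, ⟨e⟩⟩ := hex
    haveI := hi; haveI := hZ; haveI := hι
    have hc := QCoh.isCoh_cokernel hNc.1 hMc φ
    have hsN : CohB1.support N ⊆ CohB1.support M' := QCoh.mem_support_of_mono hNc.1 hMc.1 φ
    have h1 := hA.add (ShortComplex.mk φ (cokernel.π φ) (cokernel.condition φ))
      (.mk' (ShortComplex.exact_of_g_is_cokernel _ (cokernelIsCokernel φ)) ‹_› inferInstance) hNc hMc hc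
    change sym k l M' = sym k l N + sym k l (cokernel φ) at h1
    rw [h1, IntSym.sym_iso k hl e]
    refine add_nonneg (ih hNc ((H23.TopDim.dim_le_dim_of_subset hsN).trans hd)) ?_
    set ξ := i (genericPoint Z) with hξdef
    have hr : Set.range i = closure {ξ} := QCoh.range_eq_closure i
    have hsI : CohB1.support ((Coh.push i).obj I) = closure {ξ} := QCoh.support_push_ideal i ι hI hI0
    have hξd : topologicalKrullDim ↥(closure ({ξ} : Set X)) ≤ (d : WithBot ℕ∞) := by
      rw [← hsI, ← QCoh.support_iso e hc.1]
      exact (H23.TopDim.dim_le_dim_of_subset (QCoh.support_of_epi hMc.1 hc.1 (cokernel.π φ))).trans hd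
    have hO : Coh.IsCoh ((Coh.push i).obj (Coh.structureModule Z)) := QCoh.isCoh_push_structure i
    have hIc : Coh.IsCoh ((Coh.push i).obj I) := QCoh.isCoh_of_mono (e.inv) hc (QCoh.isQCoh_pushforward i hI)
    haveI : Mono ((Coh.push i).map ι) := Functor.map_mono _ ι
    have hK := QCoh.isCoh_cokernel hIc.1 hO ((Coh.push i).map ι)
    have hKd : HilbPoly.DimLT (cokernel ((Coh.push i).map ι)) d :=
      HilbPoly.dim_lt_closure hξd (QCoh.isClosed_support_of_isFT hK.1 hK.2)
        ((QCoh.support_of_epi hO.1 hK.1 (cokernel.π _)).trans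
          (hr ▸ QCoh.support_push_subset i QCoh.isQCoh_structureModule))
        (QCoh.mem_support_push_ideal i ι hI hI0).2
    have h2 := hA.add (ShortComplex.mk ((Coh.push i).map ι) (cokernel.π _) (cokernel.condition _))
      (.mk' (ShortComplex.exact_of_g_is_cokernel _ (cokernelIsCokernel _)) ‹_› inferInstance) hIc hO hK
    change sym k l ((Coh.push i).obj (Coh.structureModule Z)) = sym k l ((Coh.push i).obj I) +
      sym k l (cokernel ((Coh.push i).map ι)) at h2
    rw [hsmall _ hK hKd, add_zero] at h2
    rw [← h2]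
    rcases hξd.lt_or_eq with hlt | heq
    · exact (hsmall _ hO (HilbPoly.dimLT_of_subset (hr ▸ QCoh.support_push_subset i QCoh.isQCoh_structureModule) hlt)).ge
    · exact h Z i ((IntSym.dim_eq_of_range i hr).trans heq)

/-- Cutting by a section of a power of an ample module. -/
theorem nonneg_cons_ample [IsIntegral X] {d : ℕ} (hd : topologicalKrullDim X = ((d + 1 : ℕ) : WithBot ℕ∞))
    {A : X.Modules} (hA : CohB1.IsAmple A) {l : List X.Modules} (hl : Inv l) (hlen : l.length = d)
    (h : ∀ Q : X.Modules, Coh.IsCoh Q → topologicalKrullDim ↥(CohB1.support Q) ≤ (d : WithBot ℕ∞) → 0 ≤ sym k l Q) :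
    0 ≤ sym k (A :: l) (Coh.structureModule X) := by
  haveI := CurveCohLib.isNoetherian_of_proper (k := k) (X := X)
  haveI : X.IsSeparated := AmpleVan.isSeparated_of_proper (A := k)
  obtain ⟨n₀, hn₀⟩ := VolLib.exists_section_twist hA (InvX.isInvertible_structureModule (X := X))
  obtain ⟨τ, hτ⟩ := hn₀ (n₀ + 1) (Nat.le_succ _)
  have hN : PicF.IsInvertible (CohB1.tensorMod (Coh.structureModule X) (CohB1.tensorPow A (n₀ + 1))) :=
    InvX.isInvertible_tensorMod InvX.isInvertible_structureModule (InvX.isInvertible_tensorPow hA.1 _)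
  let s : Coh.structureModule X ⟶ CohB1.tensorMod (Coh.structureModule X) (CohB1.tensorPow A (n₀ + 1)) :=
    InvX.ofSect τ
  haveI := InvEnd.mono_of_ne_zero InvX.isInvertible_structureModule hN s (fun h0 => hτ (by
    rw [← InvX.one_ofSect τ]
    exact congrArg InvX.one h0))
  have hO : Coh.IsCoh (Coh.structureModule X) := QCoh.isCoh_structureModule'
  have hNc := AmpleVan.isCoh_invertible hN
  have hQ := QCoh.isCoh_cokernel hO.1 hNc s
  have hadd := (IntSym.additive_sym k hl).add (ShortComplex.mk s (cokernel.π s) (cokernel.condition s))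
    (.mk' (ShortComplex.exact_of_g_is_cokernel _ (cokernelIsCokernel s)) ‹_› inferInstance) hO hNc hQ
  change sym k l (CohB1.tensorMod (Coh.structureModule X) (CohB1.tensorPow A (n₀ + 1))) =
    sym k l (Coh.structureModule X) + sym k l (cokernel s) at hadd
  haveI := NakaiMo.isIso_stalk hN s
  have hη : genericPoint X ∉ CohB1.support (cokernel s) := Snapper.notMem_support_cokernel s inferInstance
  have hlt := H23.TopDim.dim_lt_of_ssubset (X := X) (by rw [hd]; exact WithBot.coe_inj.not.2 (ENat.coe_ne_top _))
    (QCoh.isClosed_support_of_isFT hQ.1 hQ.2) (fun h => hη (h ▸ Set.mem_univ _))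
  rw [hd] at hlt
  have hQd : topologicalKrullDim ↥(CohB1.support (cokernel s)) ≤ (d : WithBot ℕ∞) :=
    HilbPoly.le_of_lt_succ (by exact_mod_cast hlt)
  have hpow : sym k (CohB1.tensorPow A (n₀ + 1) :: l) (Coh.structureModule X) = sym k l (cokernel s) := by
    rw [IntSym.sym_cons]
    change sym k l (CohB1.tensorMod (Coh.structureModule X) (CohB1.tensorPow A (n₀ + 1))) - _ = _
    linarith
  rw [IntSym.sym_tensorPow_head k hA.1 hl hO (by rw [dim_support_structure (X := X), hd, hlen])] at hpow
  refine nonneg_of_mul_nonneg_right ?_ (by exact_mod_cast Nat.succ_pos n₀ : (0 : ℤ) < ((n₀ + 1 : ℕ) : ℤ))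
  rw [hpow]
  exact h _ hQ hQd

end Groth.Agent.BigMono
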