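import Groth.Agent.VolLib.Kodaira
import Groth.Agent.ZClosLib.Basic

/-!
# Bigness: ample submodules of powers and growth of sections
-/

set_option autoImplicit false
set_option linter.style.haveILetI false
set_option backward.isDefEq.respectTransparency false
set_option backward.isDefEq.respectTransparency.types false

universe u
open CategoryTheory CategoryTheory.Limits AlgebraicGeometry TopologicalSpace
open Groth.Agent.H23.PicMul

namespace Groth.Agent.BigMono

variable {k : Type u} [Field k] {X : Scheme.{u}} [X.Over (Spec (CommRingCat.of k))]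
  [IsProper (X ↘ Spec (CommRingCat.of k))] [IsIntegral X]

/-- A nonzero section of `A'⊗E` gives a monomorphism `A ⟶ E`. -/
theorem exists_mono_of_section {A A' E : X.Modules} (hA : PicF.IsInvertible A) (hE : PicF.IsInvertible E)
    (e : CohB1.tensorMod A' A ≅ Coh.structureModule X) (τ : Γ(CohB1.tensorMod A' E, ⊤)) (hτ : τ ≠ 0) :
    ∃ φ : A ⟶ E, Mono φ := by
  have hA' := VolLib.isInvertible_of_inverse hA e
  have hN := InvX.isInvertible_tensorMod hA' hE
  let s : Coh.structureModule X ⟶ CohB1.tensorMod A' E := InvX.ofSect τ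
  haveI := InvEnd.mono_of_ne_zero InvX.isInvertible_structureModule hN s (fun h => hτ (by
    rw [← InvX.one_ofSect τ]
    exact congrArg InvX.one h))
  haveI := AmpleVan.isEquivalence_tw hA
  obtain ⟨i⟩ : Nonempty (CohB1.tensorMod (Coh.structureModule X) A ≅ A) := cl_eq_iff.1 (by
    rw [cl_tensor, ← H23.PicMul.one_def, one_mul])
  obtain ⟨j⟩ : Nonempty (CohB1.tensorMod (CohB1.tensorMod A' E) A ≅ E) := cl_eq_iff.1 (by
    rw [cl_tensor, cl_tensor, mul_right_comm, ← cl_tensor, cl_eq_iff.2 ⟨e⟩, ← H23.PicMul.one_def, one_mul])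
  haveI : Mono ((AmpleVan.tw A).map s) := inferInstance
  exact ⟨i.inv ≫ (AmpleVan.tw A).map s ≫ j.hom, @mono_comp _ _ _ _ _ _ inferInstance _ (mono_comp _ _)⟩

/-- A monomorphism `A ⟶ E` gives a nonzero section of `A'⊗E`. -/
theorem exists_section_of_mono {A A' E : X.Modules} (hA : PicF.IsInvertible A) (hE : PicF.IsInvertible E)
    (e : CohB1.tensorMod A' A ≅ Coh.structureModule X) (φ : A ⟶ E) [Mono φ] :
    ∃ τ : Γ(CohB1.tensorMod A' E, ⊤), τ ≠ 0 := by
  have hA' := VolLib.isInvertible_of_inverse hA e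
  haveI := AmpleVan.isEquivalence_tw hA'
  haveI : (AmpleVan.tw A').Additive := Functor.additive_of_preserves_binary_products _
  obtain ⟨i⟩ : Nonempty (Coh.structureModule X ≅ CohB1.tensorMod A A') := cl_eq_iff.1 (by
    rw [cl_tensor, mul_comm, ← cl_tensor, cl_eq_iff.2 ⟨e⟩])
  obtain ⟨j⟩ : Nonempty (CohB1.tensorMod E A' ≅ CohB1.tensorMod A' E) := cl_eq_iff.1 (by
    rw [cl_tensor, cl_tensor, mul_comm])
  let s : Coh.structureModule X ⟶ CohB1.tensorMod A' E := i.hom ≫ (AmpleVan.tw A').map φ ≫ j.hom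
  haveI : Mono s := @mono_comp _ _ _ _ _ _ inferInstance _ (mono_comp _ _)
  exact ⟨InvX.one s, fun h => one_ne_zero (α := Γ(X, ⊤))
    (ZClosLib.app_injective_of_mono s ⊤ (h.trans (map_zero _).symm))⟩

end Groth.Agent.BigMono
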