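import Groth.Agent.BigMono.SymBasic
import Mathlib.Analysis.Polynomial.Basic
import Mathlib.Topology.Algebra.Polynomial

/-!
# Expansion of the top self-intersection of `L^q ⊗ A^p`
-/

noncomputable section

set_option autoImplicit false
set_option linter.style.haveILetI false
set_option linter.unusedSectionVars false
set_option backward.isDefEq.respectTransparency false
set_option backward.isDefEq.respectTransparency.types false

universe u
open CategoryTheory CategoryTheory.Limits AlgebraicGeometry TopologicalSpace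
open Groth.Agent.IntSym (sym Inv)

namespace Groth.Agent.BigMono

variable (k : Type u) [Field k] {X : Scheme.{u}} [X.Over (Spec (CommRingCat.of k))]
  [IsProper (X ↘ Spec (CommRingCat.of k))]

/-- All members are one of two given modules. -/
def Two (L A : X.Modules) (l : List X.Modules) : Prop := ∀ N ∈ l, N = L ∨ N = A

variable {L A F : X.Modules}

theorem Two.inv (hL : PicF.IsInvertible L) (hA : PicF.IsInvertible A) {l : List X.Modules} (h : Two L A l) : Inv l :=
  fun N hN => by rcases h N hN with rfl | rfl <;> assumption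

theorem Two.consL {l : List X.Modules} (h : Two L A l) : Two L A (L :: l) :=
  List.forall_mem_cons.2 ⟨Or.inl rfl, h⟩

theorem Two.consA {l : List X.Modules} (h : Two L A l) : Two L A (A :: l) :=
  List.forall_mem_cons.2 ⟨Or.inr rfl, h⟩

theorem Two.repA {l : List X.Modules} (h : Two L A l) (i : ℕ) : Two L A (List.replicate i A ++ l) :=
  List.forall_mem_append.2 ⟨fun N hN => Or.inr (List.eq_of_mem_replicate hN), h⟩

/-- The polynomial `t ↦ (L + tA)^i · l`. -/
def pol (L A F : X.Modules) : ℕ → List X.Modules → Polynomial ℝ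
  | 0, l => Polynomial.C (sym k l F : ℝ)
  | i + 1, l => pol L A F i (L :: l) + Polynomial.X * pol L A F i (A :: l)

theorem eval_pol_succ (i : ℕ) (l : List X.Modules) (t : ℝ) :
    (pol k L A F (i + 1) l).eval t = (pol k L A F i (L :: l)).eval t + t * (pol k L A F i (A :: l)).eval t := by
  rw [pol, Polynomial.eval_add, Polynomial.eval_mul, Polynomial.eval_X]

theorem sym_replicate_succ_append (N : X.Modules) (i : ℕ) (l : List X.Modules) :
    sym k (List.replicate (i + 1) N ++ l) F = sym k (N :: (List.replicate i N ++ l)) F := rfl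

theorem sym_cons_append {B : X.Modules} {r l : List X.Modules} (hB : PicF.IsInvertible B) (hr : Inv r) (hl : Inv l) :
    sym k (B :: (r ++ l)) F = sym k (r ++ B :: l) F :=
  IntSym.sym_perm k List.perm_middle.symm
    (List.forall_mem_cons.2 ⟨hB, List.forall_mem_append.2 ⟨hr, hl⟩⟩) F

/-- The first step of the expansion. -/
theorem sym_comb {d : ℕ} (hL : PicF.IsInvertible L) (hA : PicF.IsInvertible A) (hF : Coh.IsCoh F)
    (hd : topologicalKrullDim ↥(CohB1.support F) ≤ (d : WithBot ℕ∞)) (p q : ℕ) {r : List X.Modules} (hr : Inv r)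
    (hlen : r.length + 1 = d) :
    sym k (CohB1.tensorMod (CohB1.tensorPow L q) (CohB1.tensorPow A p) :: r) F =
      q * sym k (L :: r) F + p * sym k (A :: r) F := by
  have hd' : topologicalKrullDim ↥(CohB1.support F) ≤ ((r.length + 1 : ℕ) : WithBot ℕ∞) := by rw [hlen]; exact hd
  rw [IntSym.sym_tensor_head k (InvX.isInvertible_tensorPow hL q) (InvX.isInvertible_tensorPow hA p) hr hF hd',
    IntSym.sym_tensorPow_head k hL hr hF hd', IntSym.sym_tensorPow_head k hA hr hF hd']

theorem eval_pol {d : ℕ} (hL : PicF.IsInvertible L) (hA : PicF.IsInvertible A) (hF : Coh.IsCoh F)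
    (hd : topologicalKrullDim ↥(CohB1.support F) ≤ (d : WithBot ℕ∞)) (p q : ℕ) (hq : 0 < q) :
    ∀ (i : ℕ) (l : List X.Modules), Inv l → i + l.length = d →
      (sym k (List.replicate i (CohB1.tensorMod (CohB1.tensorPow L q) (CohB1.tensorPow A p)) ++ l) F : ℝ) =
        (q : ℝ) ^ i * (pol k L A F i l).eval ((p : ℝ) / q) := by
  intro i
  induction i with
  | zero => intro l hl hlen; simp [pol]
  | succ i ih =>
    intro l hl hlen
    have hr : Inv (List.replicate i (CohB1.tensorMod (CohB1.tensorPow L q) (CohB1.tensorPow A p))) := fun M hM => by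
      rw [List.eq_of_mem_replicate hM]
      exact InvX.isInvertible_tensorMod (InvX.isInvertible_tensorPow hL q) (InvX.isInvertible_tensorPow hA p)
    rw [sym_replicate_succ_append, sym_comb k hL hA hF hd p q (List.forall_mem_append.2 ⟨hr, hl⟩)
        (by rw [List.length_append, List.length_replicate]; omega),
      sym_cons_append k hL hr hl, sym_cons_append k hA hr hl, Int.cast_add, Int.cast_mul, Int.cast_mul,
      Int.cast_natCast, Int.cast_natCast,
      ih _ (List.forall_mem_cons.2 ⟨hL, hl⟩) (by rw [List.length_cons]; omega),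
      ih _ (List.forall_mem_cons.2 ⟨hA, hl⟩) (by rw [List.length_cons]; omega), eval_pol_succ]
    have hq' : (q : ℝ) ≠ 0 := by exact_mod_cast hq.ne'
    field_simp
    ring

/-- Lower bound for the expansion, for lists containing `A`. -/
theorem lower_of_mem {d : ℕ} (hL : PicF.IsInvertible L) (hA : PicF.IsInvertible A)
    (h : ∀ l, Two L A l → l.length = d → A ∈ l → 0 ≤ sym k l F) {t : ℝ} (ht : 0 ≤ t) :
    ∀ (i : ℕ) (l : List X.Modules), Two L A l → i + l.length = d → A ∈ l →
      t ^ i * (sym k (List.replicate i A ++ l) F : ℝ) ≤ (pol k L A F i l).eval t := by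
  intro i
  induction i with
  | zero => intro l hl hlen hmem; simp [pol]
  | succ i ih =>
    intro l hl hlen hmem
    have h0 : (0 : ℝ) ≤ t ^ i * (sym k (List.replicate i A ++ L :: l) F : ℝ) := by
      refine mul_nonneg (pow_nonneg ht i) (Int.cast_nonneg (h _ (hl.consL.repA i) ?_ ?_))
      · rw [List.length_append, List.length_replicate, List.length_cons]; omega
      · exact List.mem_append_right _ (List.mem_cons_of_mem _ hmem)
    have h1 := ih _ hl.consL (by rw [List.length_cons]; omega) (List.mem_cons_of_mem _ hmem)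
    have h2 := ih _ hl.consA (by rw [List.length_cons]; omega) List.mem_cons_self
    rw [eval_pol_succ, sym_replicate_succ_append, sym_cons_append k hA
      (fun M hM => by rw [List.eq_of_mem_replicate hM]; exact hA) (hl.inv hL hA), pow_succ']
    nlinarith [mul_le_mul_of_nonneg_left h2 ht]

/-- Lower bound for the pure expansion. -/
theorem lower_pure {d : ℕ} (hL : PicF.IsInvertible L) (hA : PicF.IsInvertible A)
    (h : ∀ l, Two L A l → l.length = d → A ∈ l → 0 ≤ sym k l F) {t : ℝ} (ht : 0 ≤ t) :
    ∀ (i : ℕ) (l : List X.Modules), Two L A l → (i + 1) + l.length = d →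
      (sym k (List.replicate (i + 1) L ++ l) F : ℝ) + t ^ (i + 1) * (sym k (List.replicate (i + 1) A ++ l) F : ℝ) ≤
        (pol k L A F (i + 1) l).eval t := by
  intro i
  induction i with
  | zero => intro l hl hlen; simp [pol, eval_pol_succ]
  | succ i ih =>
    intro l hl hlen
    have h0 : (0 : ℝ) ≤ t ^ (i + 1) * (sym k (List.replicate (i + 1) A ++ L :: l) F : ℝ) := by
      refine mul_nonneg (pow_nonneg ht _) (Int.cast_nonneg (h _ (hl.consL.repA _) ?_ ?_))
      · rw [List.length_append, List.length_replicate, List.length_cons]; omega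
      · exact List.mem_append_left _ (List.mem_replicate.2 ⟨Nat.succ_ne_zero i, rfl⟩)
    have h1 := ih _ hl.consL (by rw [List.length_cons]; omega)
    have h2 := lower_of_mem k hL hA h ht (i + 1) _ hl.consA (by rw [List.length_cons]; omega) List.mem_cons_self
    rw [eval_pol_succ, sym_replicate_succ_append k L (i + 1), sym_replicate_succ_append k A (i + 1),
      sym_cons_append k hL (fun M hM => by rw [List.eq_of_mem_replicate hM]; exact hL) (hl.inv hL hA),
      sym_cons_append k hA (fun M hM => by rw [List.eq_of_mem_replicate hM]; exact hA) (hl.inv hL hA),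
      pow_succ' t (i + 1)]
    nlinarith [mul_le_mul_of_nonneg_left h2 ht]

/-- A real polynomial bounded below by `a t^n` at the positive rationals where it is positive cannot
be negative at zero and positive somewhere. -/
theorem nonneg_at_zero (P : Polynomial ℝ) (n : ℕ) (hn : 0 < n) {a : ℝ} (ha : 0 < a)
    (hlow : ∀ t : ℝ, 0 ≤ t → P.eval 0 + a * t ^ n ≤ P.eval t)
    (hrat : ∀ p q : ℕ, 0 < p → 0 < q → 0 < P.eval ((p : ℝ) / q) → a * ((p : ℝ) / q) ^ n ≤ P.eval ((p : ℝ) / q)) :
    0 ≤ P.eval 0 := by
  by_contra hc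
  rw [not_le] at hc
  have hreal : ∀ t : ℝ, 0 < t → 0 < P.eval t → a * t ^ n ≤ P.eval t := by
    intro t ht hP
    by_contra hcon
    rw [not_le] at hcon
    have ho : IsOpen {s : ℝ | 0 < s ∧ 0 < P.eval s ∧ P.eval s < a * s ^ n} := by
      refine (isOpen_lt continuous_const continuous_id).inter
        ((isOpen_lt continuous_const P.continuous).inter (isOpen_lt P.continuous ?_))
      fun_prop
    obtain ⟨r, hr⟩ := (Rat.denseRange_cast (𝕜 := ℝ)).exists_mem_open ho ⟨t, ht, hP, hcon⟩
    obtain ⟨hr0, hr1, hr2⟩ := hr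
    have hr0' : 0 < r := by exact_mod_cast hr0
    have hnum : 0 < r.num.toNat := by
      have := Rat.num_pos.2 hr0'
      omega
    have heq : (r : ℝ) = (r.num.toNat : ℝ) / (r.den : ℝ) := by
      rw [Rat.cast_def]
      congr 1
      have := (Rat.num_pos.2 hr0').le
      exact_mod_cast (Int.toNat_of_nonneg this).symm
    rw [heq] at hr1 hr2
    exact absurd (hrat _ _ hnum r.den_pos hr1) (not_le.2 hr2)
  obtain ⟨T, hT1, hT⟩ : ∃ T : ℝ, 1 ≤ T ∧ 0 < P.eval T := by
    refine ⟨max 1 (1 - P.eval 0 / a), le_max_left _ _, ?_⟩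
    have h1 := hlow (max 1 (1 - P.eval 0 / a)) (le_trans zero_le_one (le_max_left _ _))
    have h2 : max 1 (1 - P.eval 0 / a) ≤ max 1 (1 - P.eval 0 / a) ^ n := le_self_pow₀ (le_max_left _ _) hn.ne'
    have h3 : a * (1 - P.eval 0 / a) ≤ a * max 1 (1 - P.eval 0 / a) ^ n :=
      mul_le_mul_of_nonneg_left ((le_max_right _ _).trans h2) ha.le
    rw [mul_sub, mul_one, mul_div_cancel₀ _ ha.ne'] at h3
    linarith
  have hT0 : 0 < T := lt_of_lt_of_le one_pos hT1
  have hcont : ContinuousOn (fun s : ℝ => P.eval s - a / 2 * s ^ n) (Set.Icc 0 T) :=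
    (P.continuous.sub (by fun_prop)).continuousOn
  have hmem : (0 : ℝ) ∈ Set.Icc (P.eval 0 - a / 2 * 0 ^ n) (P.eval T - a / 2 * T ^ n) := by
    refine ⟨?_, ?_⟩
    · rw [zero_pow hn.ne', mul_zero, sub_zero]; exact hc.le
    · have := hreal T hT0 hT
      have hp : 0 < T ^ n := pow_pos hT0 n
      nlinarith
  obtain ⟨s, hs, hs0⟩ := intermediate_value_Icc hT0.le hcont hmem
  have hs0' : P.eval s = a / 2 * s ^ n := sub_eq_zero.1 hs0
  rcases hs.1.eq_or_lt with rfl | hspos
  · rw [zero_pow hn.ne', mul_zero] at hs0'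
    linarith
  · have hp : 0 < s ^ n := pow_pos hspos n
    have := hreal s hspos (by rw [hs0']; positivity)
    nlinarith

end Groth.Agent.BigMono
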