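import Groth.Agent.BigMono.Siu
import Groth.Agent.IntSym.Bridge
import Groth.Agent.VolLib.Kodaira

/-!
# A nef invertible module is big iff its top self-intersection is positive
-/

noncomputable section

set_option autoImplicit false
set_option linter.style.haveILetI false
set_option linter.unusedSectionVars false
set_option backward.isDefEq.respectTransparency false
set_option backward.isDefEq.respectTransparency.types false

universe u
open CategoryTheory CategoryTheory.Limits AlgebraicGeometry TopologicalSpace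
open Groth.Agent.H23.PicMul
open Groth.Agent.IntSym (sym Inv)

namespace Groth.Agent.BigMono

variable (k : Type u) [Field k] {X : Scheme.{u}} [X.Over (Spec (CommRingCat.of k))]
  [IsProper (X ↘ Spec (CommRingCat.of k))] [IsIntegral X]

/-- An effective difference can only raise symbols that are non-negative on smaller modules. -/
theorem sym_le_of_mono {A E : X.Modules} (hA : PicF.IsInvertible A) (hE : PicF.IsInvertible E) (φ : A ⟶ E) [Mono φ]
    {n : ℕ} (hn : topologicalKrullDim X = ((n + 1 : ℕ) : WithBot ℕ∞)) {l : List X.Modules} (hl : Inv l)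
    (h : ∀ Q : X.Modules, Coh.IsCoh Q → topologicalKrullDim ↥(CohB1.support Q) ≤ (n : WithBot ℕ∞) → 0 ≤ sym k l Q) :
    sym k (A :: l) (Coh.structureModule X) ≤ sym k (E :: l) (Coh.structureModule X) := by
  haveI := CurveCohLib.isNoetherian_of_proper (k := k) (X := X)
  have hAc := AmpleVan.isCoh_invertible hA
  have hEc := AmpleVan.isCoh_invertible hE
  have hQ := QCoh.isCoh_cokernel hAc.1 hEc φ
  obtain ⟨A', hA', ⟨e⟩⟩ := H23.PicInv.exists_inverse hA
  obtain ⟨τ, hτ⟩ := exists_section_of_mono (A' := A') hA hE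
    ((cl_eq_iff.1 (by rw [cl_tensor, mul_comm, ← cl_tensor]; exact cl_eq_iff.2 ⟨e⟩)).some) φ
  have hN := InvX.isInvertible_tensorMod hA' hE
  let s : Coh.structureModule X ⟶ CohB1.tensorMod A' E := InvX.ofSect τ
  haveI := InvEnd.mono_of_ne_zero InvX.isInvertible_structureModule hN s (fun h0 => hτ (by
    rw [← InvX.one_ofSect τ]
    exact congrArg InvX.one h0))
  haveI := NakaiMo.isIso_stalk hN s
  have hηs : genericPoint X ∉ CohB1.support (cokernel s) := Snapper.notMem_support_cokernel s inferInstance
  haveI := AmpleVan.isEquivalence_tw hA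
  have hO : Coh.IsCoh (Coh.structureModule X) := QCoh.isCoh_structureModule'
  have hsc := QCoh.isCoh_cokernel hO.1 (AmpleVan.isCoh_invertible hN) s
  have hlt := H23.TopDim.dim_lt_of_ssubset (X := X) (by rw [hn]; exact WithBot.coe_inj.not.2 (ENat.coe_ne_top _))
    (QCoh.isClosed_support_of_isFT hsc.1 hsc.2) (fun h => hηs (h ▸ Set.mem_univ _))
  rw [hn] at hlt
  have hd : topologicalKrullDim ↥(CohB1.support (cokernel s)) ≤ (n : WithBot ℕ∞) :=
    HilbPoly.le_of_lt_succ (by exact_mod_cast hlt)
  haveI : (AmpleVan.tw A).Additive := Functor.additive_of_preserves_binary_products _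
  have hS : (ShortComplex.mk s (cokernel.π s) (cokernel.condition s)).ShortExact :=
    .mk' (ShortComplex.exact_of_g_is_cokernel _ (cokernelIsCokernel s)) ‹_› inferInstance
  have hco : ∀ {M : X.Modules}, Coh.IsCoh M → Coh.IsCoh (CohB1.tensorMod M A) := fun hM =>
    AmpleVan.isCoh_tensor hM (AmpleVan.isCoh_invertible hA)
  have hadd := (IntSym.additive_sym k hl).add _ (hS.map_of_exact (AmpleVan.tw A)) (hco hO)
    (hco (AmpleVan.isCoh_invertible hN)) (hco hsc)
  obtain ⟨i₁⟩ : Nonempty (CohB1.tensorMod (CohB1.tensorMod A' E) A ≅ E) := cl_eq_iff.1 (by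
    rw [cl_tensor, cl_tensor, mul_right_comm, mul_comm (PicF.cl A'), ← cl_tensor A A', cl_eq_iff.2 ⟨e⟩,
      ← H23.PicMul.one_def, one_mul])
  obtain ⟨i₀⟩ : Nonempty (CohB1.tensorMod (Coh.structureModule X) E ≅ E) := cl_eq_iff.1 (by
    rw [cl_tensor, ← H23.PicMul.one_def, one_mul])
  change sym k l (CohB1.tensorMod (CohB1.tensorMod A' E) A) =
    sym k l (CohB1.tensorMod (Coh.structureModule X) A) + sym k l (CohB1.tensorMod (cokernel s) A) at hadd
  rw [IntSym.sym_iso k hl i₁] at hadd
  have hEO : sym k l ((AmpleVan.tw E).obj (Coh.structureModule X)) = sym k l E := IntSym.sym_iso k hl i₀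
  have hnn : 0 ≤ sym k l (CohB1.tensorMod (cokernel s) A) :=
    h _ (hco hsc) ((H23.TopDim.dim_le_dim_of_subset (HilbPoly.support_tensor_subset _ _)).trans hd)
  rw [IntSym.sym_cons, IntSym.sym_cons, hEO]
  change sym k l (CohB1.tensorMod (Coh.structureModule X) A) - _ ≤ _
  linarith

/-- A nef module with an ample submodule in some power has positive top self-intersection. -/
theorem sym_pos_of_mono {L A : X.Modules} (hL : PicF.IsInvertible L) (hnef : NefC k L) (hA : CohB1.IsAmple A)
    {ν : ℕ} (φ : A ⟶ CohB1.tensorPow L ν) [Mono φ] {n : ℕ} (hn : topologicalKrullDim X = (n : WithBot ℕ∞)) :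
    0 < sym k (List.replicate n L) (Coh.structureModule X) := by
  haveI := CurveCohLib.isNoetherian_of_proper (k := k) (X := X)
  have hO : Coh.IsCoh (Coh.structureModule X) := QCoh.isCoh_structureModule'
  have hdimO : topologicalKrullDim ↥(CohB1.support (Coh.structureModule X)) = (n : WithBot ℕ∞) :=
    dim_support_structure.trans hn
  have ha : 0 < sym k (List.replicate n A) (Coh.structureModule X) :=
    (HilbPoly.mult_nonneg_and_pos k hA n _ hO hdimO.le).2 hdimO
  have key : ∀ i j : ℕ, i + j = n → sym k (List.replicate n A) (Coh.structureModule X) ≤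
      (ν : ℤ) ^ i * sym k (List.replicate i L ++ List.replicate j A) (Coh.structureModule X) := by
    intro i
    induction i with
    | zero => intro j hj; rw [zero_add] at hj; subst hj; simp
    | succ i ih =>
      intro j hj
      have hrL : Inv (List.replicate i L) := fun M hM => by rw [List.eq_of_mem_replicate hM]; exact hL
      have hrA : Inv (List.replicate j A) := fun M hM => by rw [List.eq_of_mem_replicate hM]; exact hA.1
      have hm : Mixed L (List.replicate i L ++ List.replicate j A) := fun M hM => (List.mem_append.1 hM).elim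
        (fun h => Or.inl (List.eq_of_mem_replicate h))
        (fun h => Or.inr (by rw [List.eq_of_mem_replicate h]; exact hA))
      obtain ⟨n', rfl⟩ : ∃ n', n = n' + 1 := ⟨n - 1, by omega⟩
      have hlen : (List.replicate i L ++ List.replicate j A).length = n' := by
        rw [List.length_append, List.length_replicate, List.length_replicate]; omega
      have hstep := sym_le_of_mono k hA.1 (InvX.isInvertible_tensorPow hL ν) φ hn (hm.inv hL)
        fun Q hQ hQd => nonneg_of_integral k (hm.inv hL) hlen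
          (fun Z i _ _ hZ => nonneg_push k hL hnef hA i hZ hm hlen) hQ hQd
      rw [IntSym.sym_tensorPow_head k hL (hm.inv hL) hO (by rw [hlen]; exact hdimO.le),
        sym_cons_append k hA.1 hrL hrA, ← List.replicate_succ] at hstep
      rw [pow_succ, mul_assoc, sym_replicate_succ_append]
      exact (ih (j + 1) (by omega)).trans (mul_le_mul_of_nonneg_left hstep (by positivity))
  have h := key n 0 (add_zero n)
  rw [List.replicate_zero, List.append_nil] at h
  by_contra hneg
  have := mul_nonpos_of_nonneg_of_nonpos (a := (ν : ℤ) ^ n) (by positivity) (not_lt.1 hneg)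
  omega

/-- A nef module with positive top self-intersection has large sections. -/
theorem exists_mono_of_sym_pos {L A : X.Modules} (hL : PicF.IsInvertible L) (hnef : NefC k L) (hA : CohB1.IsAmple A)
    {n : ℕ} (hn : topologicalKrullDim X = (n : WithBot ℕ∞))
    (hpos : 0 < sym k (List.replicate n L) (Coh.structureModule X)) :
    ∃ (ν : ℕ) (φ : A ⟶ CohB1.tensorPow L ν), 0 < ν ∧ Mono φ := by
  haveI := CurveCohLib.isNoetherian_of_proper (k := k) (X := X)
  haveI : X.IsSeparated := AmpleVan.isSeparated_of_proper (A := k)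
  obtain ⟨A', hA', ⟨e₀⟩⟩ := H23.PicInv.exists_inverse hA.1
  obtain ⟨e⟩ : Nonempty (CohB1.tensorMod A' A ≅ Coh.structureModule X) :=
    cl_eq_iff.1 (by rw [cl_tensor, mul_comm, ← cl_tensor]; exact cl_eq_iff.2 ⟨e₀⟩)
  suffices h : ∃ m : ℕ, 0 < m ∧ ∃ τ : Γ(CohB1.tensorMod A' (CohB1.tensorPow L m), ⊤), τ ≠ 0 by
    obtain ⟨m, hm, τ, hτ⟩ := h
    obtain ⟨φ, hφ⟩ := exists_mono_of_section hA.1 (InvX.isInvertible_tensorPow hL m) e τ hτ
    exact ⟨m, φ, hm, hφ⟩
  rcases Nat.eq_zero_or_pos n with rfl | hn0
  · have hM := InvX.isInvertible_tensorMod hA' (InvX.isInvertible_tensorPow hL 1)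
    obtain ⟨U, hU, f, hf⟩ := InvX.exists_frame hM (genericPoint X)
    have hUtop : U = ⊤ := Opens.ext (Set.eq_univ_of_forall fun x => by
      by_contra hx
      have hcl : closure ({x} : Set X) ≠ Set.univ := fun h => hx
        ((genericPoint_specializes x).mem_open U.isOpen |> fun g => False.elim (hx (by
          have : x ⤳ genericPoint X := specializes_iff_mem_closure.2 (h.symm ▸ Set.mem_univ _)
          exact this.mem_open U.isOpen hU)))
      have h := H23.TopDim.dim_lt_of_ssubset (X := X) (by rw [hn]; exact WithBot.coe_inj.not.2 (ENat.coe_ne_top _))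
        isClosed_closure hcl
      rw [hn] at h
      haveI : Nonempty ↥(closure ({x} : Set X)) := ⟨⟨x, subset_closure rfl⟩⟩
      haveI : Nonempty (IrreducibleCloseds ↥(closure ({x} : Set X))) :=
        ⟨⟨irreducibleComponent (Classical.arbitrary _), isIrreducible_irreducibleComponent, isClosed_irreducibleComponent⟩⟩
      exact absurd h (not_lt.2 Order.krullDim_nonneg))
    subst hUtop
    refine ⟨1, one_pos, f, fun h0 => ?_⟩
    subst h0
    exact one_ne_zero (α := Γ(X, ⊤)) (hf.coord_unique le_rfl (by simp))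
  obtain ⟨n, rfl⟩ : ∃ n', n = n' + 1 := ⟨n - 1, by omega⟩
  obtain ⟨a, ha, hgen⟩ := exists_gen_pow hA
  have hG := AmpleX.isAmple_tensorPow hA ha
  obtain ⟨G', hG', ⟨eG⟩⟩ := H23.PicInv.exists_inverse hG.1
  have hinv : PicF.cl G' * PicF.cl (CohB1.tensorPow A a) = 1 := by
    rw [mul_comm, ← cl_tensor, cl_eq_iff.2 ⟨eG⟩, H23.PicMul.one_def]
  have hO : Coh.IsCoh (Coh.structureModule X) := QCoh.isCoh_structureModule'
  have hdimO : topologicalKrullDim ↥(CohB1.support (Coh.structureModule X)) = ((n + 1 : ℕ) : WithBot ℕ∞) :=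
    dim_support_structure.trans hn
  set G := CohB1.tensorPow A a with hGdef
  have hnilI : Inv ([] : List X.Modules) := fun _ h => absurd h List.not_mem_nil
  have hnil : Two L G [] := fun _ h => absurd h List.not_mem_nil
  set P := pol k L G (Coh.structureModule X) (n + 1) [] with hP
  set PG := pol k L G (Coh.structureModule X) n [G] with hPG
  set c := sym k (List.replicate (n + 1) L) (Coh.structureModule X) with hc
  have hmix : ∀ l, Two L G l → l.length = n + 1 → G ∈ l → 0 ≤ sym k l (Coh.structureModule X) :=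
    fun l hl hlen _ => nonneg_mixed k (n + 1) X hn G hG L hL hnef l (hl.mixed hG) hlen
  have ha0 : 0 < sym k (List.replicate (n + 1) G) (Coh.structureModule X) :=
    (HilbPoly.mult_nonneg_and_pos k hG (n + 1) _ hO hdimO.le).2 hdimO
  have hPc : ∀ t : ℝ, 0 ≤ t → (c : ℝ) ≤ P.eval t := fun t ht => by
    have h := lower_pure k hL hG.1 hmix ht n [] hnil (by simp)
    rw [List.append_nil, List.append_nil] at h
    have : (0 : ℝ) ≤ t ^ (n + 1) * (sym k (List.replicate (n + 1) G) (Coh.structureModule X) : ℝ) :=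
      mul_nonneg (pow_nonneg ht _) (Int.cast_nonneg ha0.le)
    rw [hP, hc]
    linarith
  obtain ⟨M, hM⟩ := (isCompact_Icc (a := (0 : ℝ)) (b := 1)).bddAbove_image (f := fun t => PG.eval t)
    PG.continuous.continuousOn
  obtain ⟨q, hq⟩ := exists_nat_gt ((n + 1 : ℝ) * max M 0 / c)
  have hc0 : (0 : ℝ) < c := by exact_mod_cast hpos
  have hq0 : 0 < q := by
    have : (0 : ℝ) ≤ (n + 1 : ℝ) * max M 0 / c := by positivity
    exact_mod_cast this.trans_lt hq
  have hq1 : (1 : ℝ) ≤ q := by exact_mod_cast hq0
  set F := CohB1.tensorMod (CohB1.tensorPow L q) (CohB1.tensorPow G 1) with hFdef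
  have hF : CohB1.IsAmple F := isAmple_nef_tensor k hL hnef hG one_pos hq0
  have hr : Inv (List.replicate n F) := fun N hN => by rw [List.eq_of_mem_replicate hN]; exact hF.1
  have hev := eval_pol k hL hG.1 hO hdimO.le 1 q hq0 (n + 1) [] hnilI (by simp)
  have hevG := eval_pol k hL hG.1 hO hdimO.le 1 q hq0 n [G] (List.forall_mem_singleton.2 hG.1) (by simp)
  rw [List.append_nil, ← hP, ← hFdef] at hev
  rw [← hFdef, ← sym_cons_append k hG.1 hr hnilI, List.append_nil, ← hPG] at hevG
  have hkey : (n + 1 : ℤ) * sym k (G :: List.replicate n F) (Coh.structureModule X) <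
      sym k (List.replicate (n + 1) F) (Coh.structureModule X) := by
    have ht : ((1 : ℕ) : ℝ) / q ∈ Set.Icc (0 : ℝ) 1 := by
      refine ⟨by positivity, ?_⟩
      rw [div_le_one (by positivity), Nat.cast_one]
      exact hq1
    have h1 : PG.eval (((1 : ℕ) : ℝ) / q) ≤ max M 0 := (hM ⟨_, ht, rfl⟩).trans (le_max_left _ _)
    have h2 := hPc _ ht.1
    have h3 : (n + 1 : ℝ) * max M 0 < q * c := by rwa [div_lt_iff₀ hc0] at hq
    have h4 : ((n + 1 : ℤ) : ℝ) * (sym k (G :: List.replicate n F) (Coh.structureModule X) : ℝ) <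
        (sym k (List.replicate (n + 1) F) (Coh.structureModule X) : ℝ) := by
      rw [hev, hevG, pow_succ]
      push_cast
      have hqn : (0 : ℝ) < (q : ℝ) ^ n := by positivity
      push_cast at h1 h2
      calc (n + 1 : ℝ) * ((q : ℝ) ^ n * PG.eval (1 / (q : ℝ)))
          ≤ (n + 1 : ℝ) * ((q : ℝ) ^ n * max M 0) := by gcongr
        _ = (q : ℝ) ^ n * ((n + 1 : ℝ) * max M 0) := by ring
        _ < (q : ℝ) ^ n * (q * c) := mul_lt_mul_of_pos_left h3 hqn
        _ ≤ (q : ℝ) ^ n * q * P.eval (1 / (q : ℝ)) := by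
            rw [← mul_assoc]
            exact mul_le_mul_of_nonneg_left h2 (by positivity)
    exact_mod_cast h4
  obtain ⟨D, m₁, hD⟩ := exists_lower_sub k hG.1 hgen hG' hinv hF hn hkey
  refine VolLib.exists_kodaira (k := k) hA e hL hn fun C m₀ => ?_
  refine ⟨q * (C * q ^ (n + 1) * D + m₀ + m₁ + 1), le_trans (by omega) (Nat.le_mul_of_pos_left _ hq0), ?_⟩
  set μ := C * q ^ (n + 1) * D + m₀ + m₁ + 1 with hμ
  set H0 := Module.finrank k (Coh.HH X (CohB1.tensorPow L (q * μ)) 0) with hH0
  have h1 : μ ^ (n + 1) ≤ D * H0 := by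
    refine (hD μ (by omega)).trans (le_of_eq (congrArg (D * ·) ?_))
    refine VolLib.finrank_congr_cl (k := k) ?_
    rw [hFdef, cl_tensor, cl_tensorPow, cl_tensorPow, cl_tensor, cl_tensorPow, cl_tensorPow, cl_tensorPow, pow_one,
      mul_pow, ← pow_mul, mul_left_comm, ← mul_pow,
      show PicF.cl G' * PicF.cl A ^ a = 1 by rw [← cl_tensorPow]; exact hinv, one_pow, mul_one, cl_tensorPow]
  have h2 : 0 < H0 := Nat.pos_of_ne_zero fun h0 => by
    rw [h0, Nat.mul_zero] at h1
    have : 0 < μ ^ (n + 1) := Nat.pow_pos (by omega)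
    omega
  calc C * (q * μ) ^ (n + 1) = C * q ^ (n + 1) * μ ^ (n + 1) := by rw [mul_pow, mul_assoc]
    _ ≤ C * q ^ (n + 1) * (D * H0) := Nat.mul_le_mul_left _ h1
    _ = (C * q ^ (n + 1) * D) * H0 := (mul_assoc _ _ _).symm
    _ < μ * H0 := Nat.mul_lt_mul_of_pos_right (by omega) h2
    _ ≤ H0 * (q * μ) := by
        rw [mul_comm μ]
        exact Nat.mul_le_mul_left _ (Nat.le_mul_of_pos_left _ hq0)

/-- Intersection numbers of inverses as symbols. -/
theorem intNum_inverse {L Linv : X.Modules} (hL : PicF.IsInvertible L) (hinv : ClSub.IsInverseOf Linv L) {n : ℕ}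
    (hn : topologicalKrullDim X = (n : WithBot ℕ∞)) :
    FGA.intNum k X n (fun _ : Fin n => Linv) (Coh.structureModule X) =
      sym k (List.replicate n L) (Coh.structureModule X) := by
  haveI := CurveCohLib.isNoetherian_of_proper (k := k) (X := X)
  obtain ⟨e⟩ : Nonempty (CohB1.tensorMod Linv L ≅ Coh.structureModule X) := hinv
  have hLi := VolLib.isInvertible_of_inverse hL e
  have hO : Coh.IsCoh (Coh.structureModule X) := QCoh.isCoh_structureModule'
  rw [IntSym.intNum_eq k hn.le _ (fun _ => hLi) hO, List.ofFn_const]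
  have key : ∀ i j : ℕ, i + j = n → sym k (List.replicate i Linv ++ List.replicate j L) (Coh.structureModule X) =
      (-1) ^ i * sym k (List.replicate n L) (Coh.structureModule X) := by
    intro i
    induction i with
    | zero => intro j hj; rw [zero_add] at hj; subst hj; simp
    | succ i ih =>
      intro j hj
      have hr : Inv (List.replicate i Linv) := fun M hM => by rw [List.eq_of_mem_replicate hM]; exact hLi
      have hrL : Inv (List.replicate j L) := fun M hM => by rw [List.eq_of_mem_replicate hM]; exact hL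
      rw [sym_replicate_succ_append, IntSym.sym_inverse_head k hLi hL e (List.forall_mem_append.2 ⟨hr, hrL⟩) hO
          (by rw [dim_support_structure, hn, List.length_append, List.length_replicate, List.length_replicate]
              exact_mod_cast hj.ge.trans_eq (by omega)),
        sym_cons_append k hL hr hrL, ← List.replicate_succ, ih (j + 1) (by omega), pow_succ]
      ring
  have h := key n 0 (add_zero n)
  rw [List.replicate_zero, List.append_nil] at h
  rw [h, ← mul_assoc, ← mul_pow]
  norm_num

/-- Nef and big. -/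
theorem big_iff_intNum_pos {L Linv A : X.Modules} (hL : PicF.IsInvertible L) (hinv : ClSub.IsInverseOf Linv L)
    (hA : CohB1.IsAmple A) (hnef : NefC k L) {n : ℕ} (hn : topologicalKrullDim X = (n : WithBot ℕ∞)) :
    (∃ (ν : ℕ) (B : X.Modules) (φ : B ⟶ CohB1.tensorPow L ν), 0 < ν ∧ CohB1.IsAmple B ∧ Mono φ) ↔
      0 < FGA.intNum k X n (fun _ : Fin n => Linv) (Coh.structureModule X) := by
  rw [intNum_inverse k hL hinv hn]
  constructor
  · rintro ⟨ν, B, φ, -, hB, hφ⟩
    exact sym_pos_of_mono k hL hnef hB φ hn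
  · intro h
    obtain ⟨ν, φ, hν, hφ⟩ := exists_mono_of_sym_pos k hL hnef hA hn h
    exact ⟨ν, A, φ, hν, hA, hφ⟩

end Groth.Agent.BigMono
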