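import Groth.Agent.BigMono.Expand
import Groth.Agent.AmpleX.RelAffine
import Groth.Agent.NefCurve.Euler

/-!
# Kleiman's theorem: top symbols of nef and ample modules are non-negative
-/

noncomputable section

set_option autoImplicit false
set_option linter.style.haveILetI false
set_option linter.unusedSectionVars false
set_option backward.isDefEq.respectTransparency false
set_option backward.isDefEq.respectTransparency.types false

universe u
open CategoryTheory CategoryTheory.Limits AlgebraicGeometry TopologicalSpace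
open Groth.Agent.IntSym (sym Inv)

namespace Groth.Agent.BigMono

variable (k : Type u) [Field k]

section Basic

variable {X : Scheme.{u}} [X.Over (Spec (CommRingCat.of k))] [IsProper (X ↘ Spec (CommRingCat.of k))]

/-- Non-negative degree on the curves. -/
def NefC (L : X.Modules) : Prop :=
  ∀ (Z : Scheme.{u}) (i : Z ⟶ X) [IsClosedImmersion i] [IsIntegral Z], topologicalKrullDim Z = 1 →
    0 ≤ sym k [L] ((Coh.push i).obj (Coh.structureModule Z))

/-- All members are `L` or ample. -/
def Mixed (L : X.Modules) (l : List X.Modules) : Prop := ∀ N ∈ l, N = L ∨ CohB1.IsAmple N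

theorem Mixed.inv {L : X.Modules} (hL : PicF.IsInvertible L) {l : List X.Modules} (h : Mixed L l) : Inv l :=
  fun N hN => by
    rcases h N hN with rfl | ha
    exacts [hL, ha.1]

theorem Two.mixed {L A : X.Modules} (hA : CohB1.IsAmple A) {l : List X.Modules} (h : Two L A l) : Mixed L l :=
  fun N hN => by
    rcases h N hN with rfl | rfl
    exacts [Or.inl rfl, Or.inr hA]

/-- Restricting preserves nefness. -/
theorem NefC.pullback {L : X.Modules} (hL : PicF.IsInvertible L) (h : NefC k L) {W : Scheme.{u}} (i : W ⟶ X)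
    [IsClosedImmersion i] [W.Over (Spec (CommRingCat.of k))] [IsProper (W ↘ Spec (CommRingCat.of k))]
    (hi : i ≫ (X ↘ Spec (CommRingCat.of k)) = W ↘ Spec (CommRingCat.of k)) :
    NefC k ((Scheme.Modules.pullback i).obj L) := fun Z j _ _ hZ => by
  haveI := CurveCohLib.isNoetherian_of_proper (k := k) (X := W)
  have h1 := sym_push k i hi (l := [L]) (List.forall_mem_singleton.2 hL) (QCoh.isCoh_push_structure j)
  rw [List.map_singleton] at h1
  rw [h1]
  exact (h Z (j ≫ i) hZ).trans_eq (IntSym.sym_iso k (List.forall_mem_singleton.2 hL)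
    ((Scheme.Modules.pushforwardComp j i).app (Coh.structureModule Z)).symm)

theorem Mixed.pullback {L : X.Modules} {l : List X.Modules} (h : Mixed L l) {W : Scheme.{u}} (i : W ⟶ X)
    [IsClosedImmersion i] [CompactSpace W] :
    Mixed ((Scheme.Modules.pullback i).obj L) (l.map (Scheme.Modules.pullback i).obj) := fun N hN => by
  obtain ⟨M, hM, rfl⟩ := List.mem_map.1 hN
  exact (h M hM).imp (fun he => by rw [he])
    fun ha => AmpleVan.isAmple_pullback_of_isEmbedding i i.isClosedEmbedding.isEmbedding ha

/-- Positivity of `L^q ⊗ A^p`, given non-negativity of all mixed symbols. -/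
theorem sym_comb_pos {e : ℕ} (he : 0 < e) {L A F : X.Modules} (hL : PicF.IsInvertible L) (hA : PicF.IsInvertible A)
    (hF : Coh.IsCoh F) (hd : topologicalKrullDim ↥(CohB1.support F) ≤ (e : WithBot ℕ∞))
    (hmix : ∀ l, Two L A l → l.length = e → 0 ≤ sym k l F) (hpos : 0 < sym k (List.replicate e A) F)
    {p q : ℕ} (hp : 0 < p) (hq : 0 < q) :
    0 < sym k (List.replicate e (CohB1.tensorMod (CohB1.tensorPow L q) (CohB1.tensorPow A p))) F := by
  obtain ⟨i, rfl⟩ := Nat.exists_eq_add_of_le' he
  have h1 := eval_pol k hL hA hF hd p q hq (i + 1) [] (fun _ h => absurd h List.not_mem_nil) (by simp)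
  have h2 := lower_pure k hL hA (fun l hl hlen _ => hmix l hl hlen)
    (show (0 : ℝ) ≤ (p : ℝ) / q by positivity) i [] (fun _ h => absurd h List.not_mem_nil) (by simp)
  rw [List.append_nil] at h1 h2
  rw [List.append_nil] at h2
  have h3 : (0 : ℝ) ≤ (sym k (List.replicate (i + 1) L) F : ℝ) :=
    Int.cast_nonneg (hmix _ (fun N hN => Or.inl (List.eq_of_mem_replicate hN)) List.length_replicate)
  have h4 : (0 : ℝ) < ((p : ℝ) / q) ^ (i + 1) * (sym k (List.replicate (i + 1) A) F : ℝ) := by
    have : (0 : ℝ) < (sym k (List.replicate (i + 1) A) F : ℝ) := by exact_mod_cast hpos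
    positivity
  have h5 : (0 : ℝ) < (sym k (List.replicate (i + 1) (CohB1.tensorMod (CohB1.tensorPow L q) (CohB1.tensorPow A p))) F : ℝ) := by
    rw [h1]
    have : (0 : ℝ) < (pol k L A F (i + 1) []).eval ((p : ℝ) / q) := by linarith
    positivity
  exact_mod_cast h5

theorem eval_pol_zero {L A F : X.Modules} (hL : PicF.IsInvertible L) :
    ∀ (i : ℕ) (l : List X.Modules), Inv l →
      (pol k L A F i l).eval 0 = (sym k (List.replicate i L ++ l) F : ℝ) := by
  intro i
  induction i with
  | zero => intro l _; simp [pol]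
  | succ i ih =>
    intro l hl
    rw [eval_pol_succ, zero_mul, add_zero, ih _ (List.forall_mem_cons.2 ⟨hL, hl⟩), sym_replicate_succ_append,
      sym_cons_append k hL (fun M hM => by rw [List.eq_of_mem_replicate hM]; exact hL) hl]

/-- A closed subvariety of full dimension is everything. -/
theorem isIso_of_dim_eq [IsIntegral X] {W : Scheme.{u}} (i : W ⟶ X) [IsClosedImmersion i] {d : ℕ}
    (hd : topologicalKrullDim X = (d : WithBot ℕ∞)) (hW : topologicalKrullDim W = (d : WithBot ℕ∞)) : IsIso i := by
  have hr : Set.range i = Set.univ := by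
    by_contra hne
    have h := H23.TopDim.dim_lt_of_ssubset (X := X) (by rw [hd]; exact WithBot.coe_inj.not.2 (ENat.coe_ne_top d))
      i.isClosedEmbedding.isClosed_range hne
    rw [← IntSym.dim_eq_of_range i rfl, hW, hd] at h
    exact lt_irrefl _ h
  haveI : Surjective i := ⟨Set.range_eq_univ.1 hr⟩
  exact isIso_of_isClosedImmersion_of_surjective i

end Basic

/-- The main induction. -/
theorem nonneg_mixed (d : ℕ) : ∀ (X : Scheme.{u}) [X.Over (Spec (CommRingCat.of k))]
    [IsProper (X ↘ Spec (CommRingCat.of k))] [IsIntegral X], topologicalKrullDim X = (d : WithBot ℕ∞) →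
    ∀ A : X.Modules, CohB1.IsAmple A → ∀ L : X.Modules, PicF.IsInvertible L → NefC k L →
      ∀ l : List X.Modules, Mixed L l → l.length = d → 0 ≤ sym k l (Coh.structureModule X) := by
  induction d using Nat.strong_induction_on with
  | h d IH =>
  intro X _ _ _ hd A hA L hL hnef l hl hlen
  haveI := CurveCohLib.isNoetherian_of_proper (k := k) (X := X)
  have hO : Coh.IsCoh (Coh.structureModule X) := QCoh.isCoh_structureModule'
  have hdimO : topologicalKrullDim ↥(CohB1.support (Coh.structureModule X)) = (d : WithBot ℕ∞) :=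
    dim_support_structure.trans hd
  -- non-negativity on smaller subvarieties
  have hsub : ∀ e, e < d → ∀ (W : Scheme.{u}) (i : W ⟶ X) [IsClosedImmersion i] [IsIntegral W],
      topologicalKrullDim W = (e : WithBot ℕ∞) → ∀ l : List X.Modules, Mixed L l → l.length = e →
        0 ≤ sym k l ((Coh.push i).obj (Coh.structureModule W)) := by
    intro e he W i _ _ hW l hl hlen
    letI : W.Over (Spec (CommRingCat.of k)) := ⟨i ≫ (X ↘ Spec (CommRingCat.of k))⟩
    haveI : IsProper (W ↘ Spec (CommRingCat.of k)) :=
      show IsProper (i ≫ (X ↘ Spec (CommRingCat.of k))) from inferInstance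
    haveI := CurveCohLib.isNoetherian_of_proper (k := k) (X := W)
    rw [← sym_push k i rfl (hl.inv hL) QCoh.isCoh_structureModule']
    exact IH e he W hW _ (AmpleVan.isAmple_pullback_of_isEmbedding i i.isClosedEmbedding.isEmbedding hA) _
      (PicClLib.isInvertible_pullback i hL) (hnef.pullback k hL i rfl) _ (hl.pullback i)
      (by rw [List.length_map]; exact hlen)
  -- lists with an ample member
  have hample : ∀ l : List X.Modules, Mixed L l → l.length = d → (∃ N ∈ l, CohB1.IsAmple N) →
      0 ≤ sym k l (Coh.structureModule X) := by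
    intro l hl hlen ⟨N, hN, hNa⟩
    classical
    have hp := List.perm_cons_erase hN
    rw [IntSym.sym_perm k hp (hl.inv hL)]
    obtain ⟨d', rfl⟩ : ∃ d', d = d' + 1 := ⟨d - 1, by
      have := List.length_pos_of_mem hN
      omega⟩
    have hlen' : (l.erase N).length = d' := by
      rw [List.length_erase_of_mem hN, hlen]; rfl
    have hl' : Mixed L (l.erase N) := fun M hM => hl M (List.mem_of_mem_erase hM)
    exact nonneg_cons_ample k hd hNa (hl'.inv hL) hlen' fun Q hQ hQd =>
      nonneg_of_integral k (hl'.inv hL) hlen'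
        (fun Z i _ _ hZ => hsub d' (Nat.lt_succ_self d') Z i hZ _ hl' hlen') hQ hQd
  by_cases hex : ∃ N ∈ l, CohB1.IsAmple N
  · exact hample l hl hlen hex
  have hrep : l = List.replicate d L := List.eq_replicate_iff.2
    ⟨hlen, fun N hN => (hl N hN).resolve_right fun h => hex ⟨N, hN, h⟩⟩
  subst hrep
  have hmult := HilbPoly.mult_nonneg_and_pos k hA d _ hO hdimO.le
  rcases Nat.lt_trichotomy d 1 with h0 | h1 | h2
  · obtain rfl : d = 0 := by omega
    exact hmult.1
  · subst h1
    have h := hnef X (𝟙 X) (by rw [hd, Nat.cast_one])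
    exact h.trans_eq (IntSym.sym_iso k (List.forall_mem_singleton.2 hL)
      ((Scheme.Modules.pushforwardId X).app (Coh.structureModule X)))
  obtain ⟨n, rfl⟩ : ∃ n, d = n + 1 := ⟨d - 1, by omega⟩
  set a := sym k (List.replicate (n + 1) A) (Coh.structureModule X) with ha
  have hapos : 0 < a := hmult.2 hdimO
  have hA' := hA.1
  have hmixA : ∀ l, Two L A l → l.length = n + 1 → A ∈ l → 0 ≤ sym k l (Coh.structureModule X) :=
    fun l hl hlen hmem => hample l (hl.mixed hA) hlen ⟨A, hmem, hA⟩
  have hnil : Two L A [] := fun _ h => absurd h List.not_mem_nil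
  have hnilI : Inv ([] : List X.Modules) := fun _ h => absurd h List.not_mem_nil
  set P := pol k L A (Coh.structureModule X) (n + 1) [] with hP
  have hP0 : P.eval 0 = (sym k (List.replicate (n + 1) L) (Coh.structureModule X) : ℝ) := by
    rw [hP, eval_pol_zero k hL _ _ hnilI, List.append_nil]
  suffices h : 0 ≤ P.eval 0 by
    rw [hP0] at h
    exact_mod_cast h
  refine nonneg_at_zero P (n + 1) (Nat.succ_pos n) (a := (a : ℝ)) (by exact_mod_cast hapos)
    (fun t ht => ?_) (fun p q hp hq hpos => ?_)
  · have h := lower_pure k hL hA' hmixA ht n [] hnil (by simp)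
    rw [List.append_nil, List.append_nil] at h
    rw [hP0, ha]
    linarith [mul_comm (a : ℝ) (t ^ (n + 1))]
  set N := CohB1.tensorMod (CohB1.tensorPow L q) (CohB1.tensorPow A p) with hNdef
  have hN : PicF.IsInvertible N :=
    InvX.isInvertible_tensorMod (InvX.isInvertible_tensorPow hL q) (InvX.isInvertible_tensorPow hA' p)
  have hev := eval_pol k hL hA' hO hdimO.le p q hq (n + 1) [] hnilI (by simp)
  rw [List.append_nil, ← hP, ← hNdef] at hev
  have hq' : (0 : ℝ) < q := by exact_mod_cast hq
  have hNpos : 0 < sym k (List.replicate (n + 1) N) (Coh.structureModule X) := by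
    have : (0 : ℝ) < (sym k (List.replicate (n + 1) N) (Coh.structureModule X) : ℝ) := by
      rw [hev]; positivity
    exact_mod_cast this
  have hNamp : CohB1.IsAmple N := by
    refine NakaiMo.isAmple_of_pos k hN fun W i _ _ e he hW => ?_
    rw [← IntSym.sym_replicate]
    have hFc : Coh.IsCoh ((Coh.push i).obj (Coh.structureModule W)) := QCoh.isCoh_push_structure i
    have hFd := dim_support_push k i
    rw [hW] at hFd
    have hle : e ≤ n + 1 := by
      have h := H23.TopDim.dim_le_dim_of_subset (X := X) (Set.subset_univ (Set.range i))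
      rw [← IntSym.dim_eq_of_range i rfl, hW, (Homeomorph.Set.univ X).isHomeomorph.topologicalKrullDim_eq, hd] at h
      exact_mod_cast h
    rcases hle.lt_or_eq with hlt | heq
    · refine sym_comb_pos k he hL hA' hFc hFd.le
        (fun l hl hlen => hsub e hlt W i hW l (hl.mixed hA) hlen) ?_ hp hq
      exact (HilbPoly.mult_nonneg_and_pos k hA e _ hFc hFd.le).2 hFd
    · subst heq
      haveI := isIso_of_dim_eq i hd hW
      exact hNpos.trans_eq (IntSym.sym_iso k (fun M hM => by rw [List.eq_of_mem_replicate hM]; exact hN)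
        (NefCurve.push_structure_of_isIso i).some).symm
  have hr : Inv (List.replicate n N) := fun M hM => by rw [List.eq_of_mem_replicate hM]; exact hN
  have hLt : 0 ≤ sym k (L :: List.replicate n N) (Coh.structureModule X) := hample _
    (List.forall_mem_cons.2 ⟨Or.inl rfl, fun M hM => Or.inr (by rw [List.eq_of_mem_replicate hM]; exact hNamp)⟩)
    (by simp) ⟨N, List.mem_cons_of_mem _ (List.mem_replicate.2 ⟨by omega, rfl⟩), hNamp⟩
  have hAt : (p : ℝ) ^ n * a ≤ (sym k (A :: List.replicate n N) (Coh.structureModule X) : ℝ) := by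
    have h1 := eval_pol k hL hA' hO hdimO.le p q hq n [A] (List.forall_mem_singleton.2 hA') (by simp)
    have h2 := lower_of_mem k hL hA' hmixA (show (0 : ℝ) ≤ (p : ℝ) / q by positivity) n [A]
      (hnil.consA) (by simp) List.mem_cons_self
    rw [← hNdef, ← sym_cons_append k hA' hr hnilI, List.append_nil] at h1
    rw [← sym_cons_append k hA' (fun M hM => by rw [List.eq_of_mem_replicate hM]; exact hA') hnilI,
      List.append_nil, ← List.replicate_succ, ← ha] at h2
    rw [h1]
    calc (p : ℝ) ^ n * a = (q : ℝ) ^ n * (((p : ℝ) / q) ^ n * a) := by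
          rw [← mul_assoc, ← mul_pow, mul_div_cancel₀ _ hq'.ne']
      _ ≤ _ := mul_le_mul_of_nonneg_left h2 (by positivity)
  have hsplit : (sym k (List.replicate (n + 1) N) (Coh.structureModule X) : ℝ) =
      q * (sym k (L :: List.replicate n N) (Coh.structureModule X) : ℝ) +
        p * (sym k (A :: List.replicate n N) (Coh.structureModule X) : ℝ) := by
    rw [List.replicate_succ, hNdef, sym_comb k hL hA' hO hdimO.le p q hr (by rw [List.length_replicate])]
    push_cast
    ring
  rw [hev] at hsplit
  have hL0 : (0 : ℝ) ≤ (sym k (L :: List.replicate n N) (Coh.structureModule X) : ℝ) := Int.cast_nonneg hLt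
  rw [div_pow, mul_div_assoc', div_le_iff₀ (by positivity)]
  have h3 : (p : ℝ) * ((p : ℝ) ^ n * a) ≤ p * (sym k (A :: List.replicate n N) (Coh.structureModule X) : ℝ) :=
    mul_le_mul_of_nonneg_left hAt (by positivity)
  calc (a : ℝ) * (p : ℝ) ^ (n + 1) = p * ((p : ℝ) ^ n * a) := by ring
    _ ≤ _ := by nlinarith [mul_nonneg hq'.le hL0]

variable {X : Scheme.{u}} [X.Over (Spec (CommRingCat.of k))] [IsProper (X ↘ Spec (CommRingCat.of k))]

/-- Mixed symbols of a nef and ample modules are non-negative on all subvarieties. -/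
theorem nonneg_push {L A : X.Modules} (hL : PicF.IsInvertible L) (hnef : NefC k L) (hA : CohB1.IsAmple A)
    {W : Scheme.{u}} (i : W ⟶ X) [IsClosedImmersion i] [IsIntegral W] {e : ℕ}
    (hW : topologicalKrullDim W = (e : WithBot ℕ∞)) {l : List X.Modules} (hl : Mixed L l) (hlen : l.length = e) :
    0 ≤ sym k l ((Coh.push i).obj (Coh.structureModule W)) := by
  letI : W.Over (Spec (CommRingCat.of k)) := ⟨i ≫ (X ↘ Spec (CommRingCat.of k))⟩
  haveI : IsProper (W ↘ Spec (CommRingCat.of k)) :=
    show IsProper (i ≫ (X ↘ Spec (CommRingCat.of k))) from inferInstance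
  haveI := CurveCohLib.isNoetherian_of_proper (k := k) (X := W)
  rw [← sym_push k i rfl (hl.inv hL) QCoh.isCoh_structureModule']
  exact nonneg_mixed k e W hW _ (AmpleVan.isAmple_pullback_of_isEmbedding i i.isClosedEmbedding.isEmbedding hA) _
    (PicClLib.isInvertible_pullback i hL) (hnef.pullback k hL i rfl) _ (hl.pullback i)
    (by rw [List.length_map]; exact hlen)

/-- Nef plus ample is ample. -/
theorem isAmple_nef_tensor {L A : X.Modules} (hL : PicF.IsInvertible L) (hnef : NefC k L) (hA : CohB1.IsAmple A)
    {p q : ℕ} (hp : 0 < p) (hq : 0 < q) :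
    CohB1.IsAmple (CohB1.tensorMod (CohB1.tensorPow L q) (CohB1.tensorPow A p)) := by
  haveI := CurveCohLib.isNoetherian_of_proper (k := k) (X := X)
  refine NakaiMo.isAmple_of_pos k
    (InvX.isInvertible_tensorMod (InvX.isInvertible_tensorPow hL q) (InvX.isInvertible_tensorPow hA.1 p))
    fun W i _ _ e he hW => ?_
  rw [← IntSym.sym_replicate]
  have hFc : Coh.IsCoh ((Coh.push i).obj (Coh.structureModule W)) := QCoh.isCoh_push_structure i
  have hFd := dim_support_push k i
  rw [hW] at hFd
  exact sym_comb_pos k he hL hA.1 hFc hFd.le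
    (fun l hl hlen => nonneg_push k hL hnef hA i hW (hl.mixed hA) hlen)
    ((HilbPoly.mult_nonneg_and_pos k hA e _ hFc hFd.le).2 hFd) hp hq

end Groth.Agent.BigMono
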