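import Groth.Agent.BigMono.NefPos
import Groth.Agent.IntSym.CurveMap
import Groth.Agent.IntSym.Curves
import Groth.Agent.ChowX.Main
import Groth.Agent.ChowX.QuasiProj

/-!
# Top self-intersections of nef modules on proper schemes
-/

set_option autoImplicit false
universe u
open CategoryTheory CategoryTheory.Limits AlgebraicGeometry TopologicalSpace

namespace Groth.Agent.BigMono

open Groth.Agent IntSym

variable (k : Type u) [Field k]

/-- A proper integral scheme is dominated by a projective one of the same dimension. -/
theorem exists_projective_cover (W : Scheme.{u}) [W.Over (Spec (CommRingCat.of k))]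
    [IsProper (W ↘ Spec (CommRingCat.of k))] [IsIntegral W] {d : ℕ}
    (hd : topologicalKrullDim W = (d : WithBot ℕ∞)) :
    ∃ (V : Scheme.{u}) (g : V ⟶ W) (A : V.Modules) (_ : IsIntegral V),
      IsProper (g ≫ (W ↘ Spec (CommRingCat.of k))) ∧ CohB1.IsAmple A ∧
        topologicalKrullDim V = (d : WithBot ℕ∞) ∧ g (genericPoint V) = genericPoint W ∧
        0 < g.residueDegree (genericPoint V) := by
  let p := W ↘ Spec (CommRingCat.of k)
  haveI := CurveCohLib.isNoetherian_of_proper (k := k) (X := W)
  obtain ⟨n, W', π, j, -, hj, hjqc, hjr, hπ, hs, -, -, -⟩ :=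
    ChowX.chow_dense p (NoetherianSpace.finite_irreducibleComponents (α := W))
  letI : W'.Over (Spec (CommRingCat.of k)) := ⟨π ≫ p⟩
  haveI : IsProper (W' ↘ Spec (CommRingCat.of k)) := show IsProper (π ≫ p) from inferInstance
  haveI := CurveCohLib.isNoetherian_of_proper (k := k) (X := W')
  let P := CohB1.ProjSpaceOver.toBase n (Spec (CommRingCat.of k))
  haveI : IsProper (CohB1.ProjSpace.toSpec n (ULift.{u} ℤ)) := PnCoh.Chow.isProper_toSpec n _
  haveI : IsProper P := MorphismProperty.pullback_snd _ _ inferInstance
  haveI : IsProper (j ≫ P) := by rw [hjr]; infer_instance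
  have hA : CohB1.IsAmple ((Scheme.Modules.pullback j).obj (Twist.twistOver n (Spec (CommRingCat.of k)) 1)) :=
    (AmpleX.isRelAmple_iff_isAmple (j ≫ P) _).1
      (AmpleX.isRelAmple_pullback_embedding P j j.isEmbedding (ChowX.isRelAmple_twistOver n _))
  let η := genericPoint W
  have hη : VarDim.deg p η = d := by
    have h := VarDim.topologicalKrullDim_eq_deg_genericPoint p
    rw [hd] at h
    exact_mod_cast h.symm
  haveI : IsProper π := hπ
  obtain ⟨z, hz, hz0⟩ := VarDim.exists_fdeg_eq_zero π (y := η) (Surjective.surj η)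
  have hzd : VarDim.deg (W' ↘ Spec (CommRingCat.of k)) z = d := by
    refine (VarDim.deg_eq_add π p rfl z).trans ?_
    rw [hz, hη, hz0, Nat.add_zero]
  let I := IntNum.ptIdeal z
  haveI : IsIntegral I.subscheme := QCoh.isIntegral_closure_point z
  have hr : Set.range I.subschemeι = closure ({z} : Set W') := IntNum.range_ptIdeal z
  have hgz : I.subschemeι (genericPoint I.subscheme) = z :=
    ((show Specializes (I.subschemeι (genericPoint I.subscheme)) z from specializes_iff_mem_closure.2
      ((QCoh.range_eq_closure I.subschemeι).le (hr.ge (subset_closure rfl)))).antisymm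
    (specializes_iff_mem_closure.2 (hr.le ⟨_, rfl⟩))).eq
  haveI : CompactSpace I.subscheme := QuasiCompact.compactSpace_of_compactSpace I.subschemeι
  refine ⟨I.subscheme, I.subschemeι ≫ π, _, inferInstance, ?_,
    AmpleVan.isAmple_pullback_of_isEmbedding I.subschemeι I.subschemeι.isClosedEmbedding.isEmbedding hA,
    ?_, ?_, ?_⟩
  · rw [Category.assoc]
    exact inferInstanceAs (IsProper (I.subschemeι ≫ (π ≫ p)))
  · rw [dim_eq_of_range I.subschemeι hr,
      VarDim.topologicalKrullDim_closure_singleton (W' ↘ Spec (CommRingCat.of k)) z, hzd]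
    rfl
  · show π (I.subschemeι (genericPoint I.subscheme)) = η
    rw [hgz, hz]
  · let g := I.subschemeι ≫ π
    have hrd : FibDim.rd g (genericPoint I.subscheme) = 0 := by
      have h1 := FibDim.rd_eq_rdeg g (genericPoint I.subscheme)
      rw [VarDim.rdeg_comp, VarDim.rdeg_preimmersion I.subschemeι, add_zero, hgz,
        ← VarDim.fdeg_eq_rdeg π p, hz0] at h1
      exact_mod_cast h1
    have hfin := CycLib.finite_residueFieldMap_of_rd_eq_zero g _ hrd
    letI := (g.residueFieldMap (genericPoint I.subscheme)).hom.toAlgebra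
    haveI : Module.Finite (W.residueField (g (genericPoint I.subscheme)))
        (I.subscheme.residueField (genericPoint I.subscheme)) := hfin
    show 0 < Module.finrank (W.residueField (g (genericPoint I.subscheme)))
      (I.subscheme.residueField (genericPoint I.subscheme))
    exact Module.finrank_pos

variable {X : Scheme.{u}} [X.Over (Spec (CommRingCat.of k))] [IsProper (X ↘ Spec (CommRingCat.of k))]

/-- Kleiman: top self-intersections of a nef module are non-negative, no projectivity. -/
theorem nonneg_proper {L : X.Modules} (hL : PicF.IsInvertible L) (hnef : NefC k L)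
    {W : Scheme.{u}} (i : W ⟶ X) [IsClosedImmersion i] [IsIntegral W] {d : ℕ}
    (hW : topologicalKrullDim W = (d : WithBot ℕ∞)) :
    0 ≤ sym k (List.replicate d L) ((Coh.push i).obj (Coh.structureModule W)) := by
  haveI := CurveCohLib.isNoetherian_of_proper (k := k) (X := X)
  letI : W.Over (Spec (CommRingCat.of k)) := ⟨i ≫ (X ↘ Spec (CommRingCat.of k))⟩
  haveI : IsProper (W ↘ Spec (CommRingCat.of k)) :=
    show IsProper (i ≫ (X ↘ Spec (CommRingCat.of k))) from inferInstance
  obtain ⟨V, g, A, hV, hp, hA, hVd, hgη, hdeg⟩ := exists_projective_cover k W hW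
  haveI := hV
  letI : V.Over (Spec (CommRingCat.of k)) := ⟨g ≫ (W ↘ Spec (CommRingCat.of k))⟩
  haveI : IsProper (V ↘ Spec (CommRingCat.of k)) := hp
  haveI := CurveCohLib.isNoetherian_of_proper (k := k) (X := V)
  let f := g ≫ i
  have hf : f ≫ (X ↘ Spec (CommRingCat.of k)) = V ↘ Spec (CommRingCat.of k) := Category.assoc _ _ _
  haveI : IsProper f := LerayEuler.isProper_f k f hf
  have hnefV : NefC k ((Scheme.Modules.pullback f).obj L) :=
    fun Z j _ _ hZ => sym_pullback_nonneg k f hf hL hnef j hZ
  have h0 := nonneg_mixed k d V hVd A hA _ (PicClLib.isInvertible_pullback f hL) hnefV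
    (List.replicate d ((Scheme.Modules.pullback f).obj L))
    (fun N hN => Or.inl (List.eq_of_mem_replicate hN)) List.length_replicate
  obtain ⟨-, h⟩ := LerayEuler.alt_pullback_integral k f hf hVd (fun _ : Fin d => L) (fun _ => hL)
  rw [alt_eq_sym k (fun _ : Fin d => (Scheme.Modules.pullback f).obj L)
    (fun _ => PicClLib.isInvertible_pullback _ hL), alt_eq_sym k (fun _ : Fin d => L) (fun _ => hL),
    List.ofFn_const, List.ofFn_const] at h
  have h' : sym k (List.replicate d ((Scheme.Modules.pullback f).obj L)) (Coh.structureModule V) =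
      (f.residueDegree (genericPoint V) : ℤ) * sym k (List.replicate d L) (ClSub.quotMod f.ker) := by
    exact_mod_cast h
  obtain ⟨hI, hgen⟩ := H23.P1Graph.image_integral f
  haveI := hI
  obtain ⟨e⟩ := QCoh.push_structure_iso i f.ker.subschemeι (by
    rw [QCoh.range_eq_closure i, QCoh.range_eq_closure f.ker.subschemeι, hgen]
    show closure ({i (g (genericPoint V))} : Set X) = _
    rw [hgη])
  have hfdeg : 0 < f.residueDegree (genericPoint V) := by
    rw [show f.residueDegree (genericPoint V) = (g ≫ i).residueDegree (genericPoint V) from rfl,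
      CycLib.residueDegree_comp, CycLib.residueDegree_preimmersion i, one_mul]
    exact hdeg
  have hmulnn : (0 : ℤ) ≤ (f.residueDegree (genericPoint V) : ℤ) * sym k (List.replicate d L) (ClSub.quotMod f.ker) :=
    h' ▸ h0
  have h2 := nonneg_of_mul_nonneg_right hmulnn (by exact_mod_cast hfdeg)
  exact h2.trans_eq (sym_iso k (fun N hN => List.eq_of_mem_replicate hN ▸ hL) e)

end Groth.Agent.BigMono
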