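import Groth.Agent.BigMono.TopVanish
import Groth.Agent.VolLib.Hhat

/-!
# Sections of a nef module with a numerically trivial power
-/

noncomputable section

set_option autoImplicit false
set_option linter.style.haveILetI false
set_option linter.unusedSectionVars false
set_option backward.isDefEq.respectTransparency false
set_option backward.isDefEq.respectTransparency.types false

universe u
open CategoryTheory CategoryTheory.Limits AlgebraicGeometry TopologicalSpace
open Groth.Agent.H23.PicMul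
open Groth.Agent.IntSym (sym Inv)
open Groth.Agent.HilbPoly (pw)
open Groth.Agent.VolLib (Bd hseq)

namespace Groth.Agent.BigMono

variable (k : Type u) [Field k]

section Basic

variable {X : Scheme.{u}} [X.Over (Spec (CommRingCat.of k))] [IsProper (X ↘ Spec (CommRingCat.of k))]

/-- Growth on integral subvarieties bounds the growth of all coherent modules. -/
theorem bd_of_integral {L : X.Modules} (hL : PicF.IsInvertible L) {d e : ℕ}
    (h : ∀ (Z : Scheme.{u}) (i : Z ⟶ X) [IsClosedImmersion i] [IsIntegral Z] [Z.Over (Spec (CommRingCat.of k))]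
      [IsProper (Z ↘ Spec (CommRingCat.of k))],
      i ≫ (X ↘ Spec (CommRingCat.of k)) = Z ↘ Spec (CommRingCat.of k) →
        topologicalKrullDim Z ≤ (d : WithBot ℕ∞) →
          Bd e (hseq k ((Scheme.Modules.pullback i).obj L) (Coh.structureModule Z) 0))
    {F : X.Modules} (hF : Coh.IsCoh F) (hd : topologicalKrullDim ↥(CohB1.support F) ≤ (d : WithBot ℕ∞)) :
    Bd e (hseq k L F 0) := by
  haveI := CurveCohLib.isNoetherian_of_proper (k := k) (X := X)
  induction QCoh.filt_of_isCoh hF with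
  | @zero N hN =>
    refine (Bd.zero e).le fun μ => ?_
    have hz : IsZero (pw L N μ) := by
      haveI := AmpleVan.isEquivalence_tw (InvX.isInvertible_tensorPow hL μ)
      haveI : (AmpleVan.tw (CohB1.tensorPow L μ)).Additive := Functor.additive_of_preserves_binary_products _
      exact (AmpleVan.tw (CohB1.tensorPow L μ)).map_isZero hN
    haveI : Subsingleton (Coh.HH X (pw L N μ) 0) := Euler.subsingleton_HH_of_isZero hz 0
    unfold VolLib.hseq
    rw [Module.finrank_zero_of_subsingleton]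
    exact Nat.zero_le _
  | @step N M φ _ _ hNc hMc hex ih =>
    obtain ⟨Z, i, hi, hZ, I, ι, hι, hI, hI0, ⟨e'⟩⟩ := hex
    haveI := hi; haveI := hZ; haveI := hι
    have hN := ih hNc ((H23.TopDim.dim_le_dim_of_subset (QCoh.mem_support_of_mono hNc.1 hMc.1 φ)).trans hd)
    letI : Z.Over (Spec (CommRingCat.of k)) := ⟨i ≫ (X ↘ Spec (CommRingCat.of k))⟩
    haveI : IsProper (Z ↘ Spec (CommRingCat.of k)) :=
      show IsProper (i ≫ (X ↘ Spec (CommRingCat.of k))) from inferInstance
    haveI := CurveCohLib.isNoetherian_of_proper (k := k) (X := Z)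
    let L₁ := (Scheme.Modules.pullback i).obj L
    have hL₁ : PicF.IsInvertible L₁ := PicClLib.isInvertible_pullback i hL
    have hc' := QCoh.isCoh_cokernel hNc.1 hMc φ
    have hr : Set.range i ⊆ CohB1.support M := by
      rw [QCoh.range_eq_closure i, ← QCoh.support_push_ideal i ι hI hI0, ← QCoh.support_iso e' hc'.1]
      exact QCoh.support_of_epi hMc.1 hc'.1 (cokernel.π φ)
    have hZd : topologicalKrullDim Z ≤ (d : WithBot ℕ∞) :=
      ((IntSym.dim_eq_of_range i rfl).trans_le (H23.TopDim.dim_le_dim_of_subset hr)).trans hd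
    have hS : (ShortComplex.mk φ (cokernel.π φ) (cokernel.condition φ)).ShortExact :=
      .mk' (ShortComplex.exact_of_g_is_cokernel _ (cokernelIsCokernel φ)) ‹_› inferInstance
    refine (hN.add (h Z i rfl hZd)).le fun μ => ?_
    refine (VolLib.hseq_mid_le hL hS hNc hMc hc' 0 μ).trans ?_
    rw [Pi.add_apply]
    refine add_le_add le_rfl ?_
    show hseq k L (cokernel φ) 0 μ ≤ _
    obtain ⟨a⟩ := IntNum.pullback_tensorPow i L μ
    obtain ⟨p⟩ := IntNum.push_tensor i I (CohB1.tensorPow L μ)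
    let e'' : pw L (cokernel φ) μ ≅ (Coh.push i).obj (pw L₁ I μ) :=
      (AmpleVan.tw (CohB1.tensorPow L μ)).mapIso e' ≪≫ p.symm ≪≫
        (Coh.push i).mapIso (PicGrp.tensorModIso (Iso.refl I) a)
    have hIc : Coh.IsCoh I := QCoh.isCoh_of_mono ι QCoh.isCoh_structureModule' hI
    obtain ⟨l⟩ := QCoh.HH_push_linear i (Coh.toGlobal (X ↘ Spec (CommRingCat.of k)))
      (Coh.toGlobal (Z ↘ Spec (CommRingCat.of k))) (fun b => rfl) (HilbPoly.isCoh_pw hL₁ hIc μ).1 0
    unfold VolLib.hseq
    rw [HilbPoly.finrank_HH_iso k e'', ← l.finrank_eq]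
    haveI := AmpleVan.isEquivalence_tw (InvX.isInvertible_tensorPow hL₁ μ)
    haveI : Mono ((AmpleVan.tw (CohB1.tensorPow L₁ μ)).map ι) := inferInstance
    exact VolLib.finrank_le_of_mono (k := k) ((AmpleVan.tw (CohB1.tensorPow L₁ μ)).map ι)
      (HilbPoly.isCoh_pw hL₁ QCoh.isCoh_structureModule' μ)

end Basic

/-- The main induction. -/
theorem bd_numTriv (m : ℕ) (d : ℕ) : ∀ (X : Scheme.{u}) [X.Over (Spec (CommRingCat.of k))]
    [IsProper (X ↘ Spec (CommRingCat.of k))] [IsIntegral X], topologicalKrullDim X = (d : WithBot ℕ∞) →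
    ∀ A : X.Modules, CohB1.IsAmple A → ∀ L : X.Modules, PicF.IsInvertible L → NefC k L →
      (∀ (W : Scheme.{u}) (i : W ⟶ X) [IsClosedImmersion i] [IsIntegral W],
        topologicalKrullDim W = (m : WithBot ℕ∞) →
          sym k (List.replicate m L) ((Coh.push i).obj (Coh.structureModule W)) = 0) →
      Bd m (hseq k L (Coh.structureModule X) 0) := by
  induction d using Nat.strong_induction_on with
  | h d IH =>
  intro X _ _ _ hd A hA L hL hnef h0
  haveI := CurveCohLib.isNoetherian_of_proper (k := k) (X := X)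
  haveI : X.IsSeparated := AmpleVan.isSeparated_of_proper (A := k)
  have hO : Coh.IsCoh (Coh.structureModule X) := QCoh.isCoh_structureModule'
  rcases lt_or_ge d m with hdm | hdm
  · exact VolLib.bd_of_support_dim_lt k hL hO (by rw [dim_support_structure, hd]; exact_mod_cast hdm) 0
  obtain ⟨j, rfl⟩ := Nat.exists_eq_add_of_le hdm
  have htop := sym_top_eq_zero k m j X hd A hA L hL h0
  -- the case of a point
  obtain ⟨d', hd'⟩ : ∃ d', m + j = d' + 1 := by
    rcases Nat.eq_zero_or_pos (m + j) with hz | hp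
    · exfalso
      have hpos := (HilbPoly.mult_nonneg_and_pos k hA (m + j) _ hO (dim_support_structure.trans hd).le).2
        (dim_support_structure.trans hd)
      have : List.replicate (m + j) A = List.replicate (m + j) L := by rw [hz]; rfl
      change 0 < sym k (List.replicate (m + j) A) (Coh.structureModule X) at hpos
      rw [this, htop] at hpos
      exact lt_irrefl _ hpos
    · exact ⟨m + j - 1, by omega⟩
  obtain ⟨n₀, hn₀⟩ := VolLib.exists_section_twist hA (InvX.isInvertible_structureModule (X := X))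
  obtain ⟨τ, hτ⟩ := hn₀ (n₀ + 1) (Nat.le_succ _)
  let N := CohB1.tensorMod (Coh.structureModule X) (CohB1.tensorPow A (n₀ + 1))
  have hNa : CohB1.IsAmple N := by
    obtain ⟨i⟩ : Nonempty (CohB1.tensorPow A (n₀ + 1) ≅ N) := cl_eq_iff.1 (by
      rw [cl_tensor, ← H23.PicMul.one_def, one_mul])
    exact AmpleX.isAmple_of_iso i (AmpleX.isAmple_tensorPow hA (Nat.succ_pos _))
  have hN := hNa.1
  let s : Coh.structureModule X ⟶ N := InvX.ofSect τ
  haveI := InvEnd.mono_of_ne_zero InvX.isInvertible_structureModule hN s (fun h => hτ (by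
    rw [← InvX.one_ofSect τ]
    exact congrArg InvX.one h))
  haveI := NakaiMo.isIso_stalk hN s
  have hη : genericPoint X ∉ CohB1.support (cokernel s) := Snapper.notMem_support_cokernel s inferInstance
  have hQs := QCoh.isCoh_cokernel hO.1 (AmpleVan.isCoh_invertible hN) s
  obtain ⟨N', hN', ⟨i₁⟩⟩ := H23.PicInv.exists_inverse hN
  obtain ⟨eN⟩ : Nonempty (CohB1.tensorMod N' N ≅ Coh.structureModule X) :=
    cl_eq_iff.1 (by rw [cl_tensor, mul_comm, ← cl_tensor]; exact cl_eq_iff.2 ⟨i₁⟩)
  haveI := AmpleVan.isEquivalence_tw hN'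
  haveI : (AmpleVan.tw N').Additive := Functor.additive_of_preserves_binary_products _
  obtain ⟨i₂⟩ : Nonempty (CohB1.tensorMod (Coh.structureModule X) N' ≅ N') := cl_eq_iff.1 (by
    rw [cl_tensor, ← H23.PicMul.one_def, one_mul])
  have hN'c := AmpleVan.isCoh_invertible hN'
  have hQ : Coh.IsCoh (CohB1.tensorMod (cokernel s) N') := AmpleVan.isCoh_tensor hQs hN'c
  have hlt := H23.TopDim.dim_lt_of_ssubset (X := X) (by rw [hd]; exact WithBot.coe_inj.not.2 (ENat.natCast_ne_top _))
    (QCoh.isClosed_support_of_isFT hQs.1 hQs.2) (fun h => hη (h ▸ Set.mem_univ _))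
  rw [hd, hd'] at hlt
  have hQd : topologicalKrullDim ↥(CohB1.support (CohB1.tensorMod (cokernel s) N')) ≤ (d' : WithBot ℕ∞) :=
    (H23.TopDim.dim_le_dim_of_subset (HilbPoly.support_tensor_subset _ _)).trans
      (HilbPoly.le_of_lt_succ (by exact_mod_cast hlt))
  have hBQ : Bd m (hseq k L (CohB1.tensorMod (cokernel s) N') 0) := bd_of_integral k hL (fun Z i _ _ _ _ hi hZ => by
    haveI := CurveCohLib.isNoetherian_of_proper (k := k) (X := Z)
    obtain ⟨c, hc⟩ : ∃ c : ℕ, topologicalKrullDim Z = (c : WithBot ℕ∞) :=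
      ⟨_, VarDim.topologicalKrullDim_eq_deg_genericPoint (Z ↘ Spec (CommRingCat.of k))⟩
    rw [hc] at hZ
    refine IH c (by have : c ≤ d' := (by exact_mod_cast hZ); omega) Z hc _
      (AmpleVan.isAmple_pullback_of_isEmbedding i i.isClosedEmbedding.isEmbedding hA) _
      (PicClLib.isInvertible_pullback i hL) (hnef.pullback k hL i hi) fun W g _ _ hW => ?_
    have h1 := sym_push k i hi (inv_replicate hL m) (QCoh.isCoh_push_structure g)
    rw [List.map_replicate] at h1
    rw [h1]
    exact (IntSym.sym_iso k (inv_replicate hL m)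
      ((Scheme.Modules.pushforwardComp g i).app (Coh.structureModule W))).trans (h0 W (g ≫ i) hW)) hQ hQd
  have hδ : Bd m (fun μ => if μ = 0 then hseq k L N' 0 0 else 0) := ⟨hseq k L N' 0 0, fun μ => by
    rcases eq_or_ne μ 0 with rfl | h
    · simp
    · simp [h]⟩
  have hvan : ∀ μ, 0 < μ → hseq k L N' 0 μ = 0 := fun μ hμ => by
    by_contra hne
    obtain ⟨σ, hσ⟩ := VolLib.exists_section_of_pos (k := k) (Nat.pos_of_ne_zero hne)
    obtain ⟨φ, hφ⟩ := exists_mono_of_section hN (InvX.isInvertible_tensorPow hL μ) eN σ hσ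
    have h := sym_pos_of_mono k hL hnef hNa φ hd
    rw [htop] at h
    exact lt_irrefl _ h
  have hS : (ShortComplex.mk s (cokernel.π s) (cokernel.condition s)).ShortExact :=
    .mk' (ShortComplex.exact_of_g_is_cokernel _ (cokernelIsCokernel s)) ‹_› inferInstance
  have hco : ∀ {M : X.Modules}, Coh.IsCoh M → Coh.IsCoh (CohB1.tensorMod M N') := fun hM =>
    AmpleVan.isCoh_tensor hM hN'c
  refine (hδ.add hBQ).le fun μ => ?_
  have h1 : hseq k L (CohB1.tensorMod N N') 0 μ ≤ hseq k L (CohB1.tensorMod (Coh.structureModule X) N') 0 μ +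
      hseq k L (CohB1.tensorMod (cokernel s) N') 0 μ :=
    VolLib.hseq_mid_le hL (hS.map_of_exact (AmpleVan.tw N')) (hco hO) (hco (AmpleVan.isCoh_invertible hN)) hQ 0 μ
  rw [VolLib.hseq_congr k i₁ 0 μ, VolLib.hseq_congr k i₂ 0 μ] at h1
  refine h1.trans ?_
  rw [Pi.add_apply]
  refine add_le_add ?_ le_rfl
  rcases eq_or_ne μ 0 with rfl | h
  · simp
  · simp [h, hvan μ (Nat.pos_of_ne_zero h)]

/-- Bounded growth contradicts growth of a higher order. -/
theorem not_growth_of_bd {m : ℕ} {f : ℕ → ℕ} (h : Bd m f) :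
    ¬ (∃ ν a : ℕ, 0 < ν ∧ 0 < a ∧ ∀ μ : ℕ, 1 ≤ μ → μ ^ m ≤ a * f (ν * μ)) := by
  rintro ⟨ν, a, hν, -, hg⟩
  obtain ⟨C, hC⟩ := h
  set μ := a * C * (ν + 1) ^ m + 1 with hμ
  have hμ1 : 1 ≤ μ := Nat.le_add_left _ _
  have h1 : μ ^ m * (ν * μ + 1) ≤ a * C * (ν + 1) ^ m * μ ^ m :=
    calc μ ^ m * (ν * μ + 1) ≤ a * f (ν * μ) * (ν * μ + 1) := Nat.mul_le_mul_right _ (hg μ hμ1)
      _ = a * (f (ν * μ) * (ν * μ + 1)) := by ring
      _ ≤ a * (C * (ν * μ + 1) ^ m) := Nat.mul_le_mul_left _ (hC _)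
      _ ≤ a * (C * ((ν + 1) * μ) ^ m) :=
        Nat.mul_le_mul_left _ (Nat.mul_le_mul_left _ (Nat.pow_le_pow_left (by rw [add_mul, one_mul]; omega) _))
      _ = a * C * (ν + 1) ^ m * μ ^ m := by rw [mul_pow]; ring
  rw [mul_comm (a * C * (ν + 1) ^ m)] at h1
  have h2 := Nat.le_of_mul_le_mul_left h1 (pow_pos hμ1 m)
  have h3 : μ ≤ ν * μ := Nat.le_mul_of_pos_left μ hν
  omega

end Groth.Agent.BigMono
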