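import Groth.Agent.BigMono.Basic

/-!
# Ample submodules of powers and real growth bounds
-/

set_option autoImplicit false
set_option linter.style.haveILetI false
set_option backward.isDefEq.respectTransparency false
set_option backward.isDefEq.respectTransparency.types false

universe u
open CategoryTheory CategoryTheory.Limits AlgebraicGeometry TopologicalSpace
open Groth.Agent.H23.PicMul

namespace Groth.Agent.BigMono

variable (k : Type u) [Field k] {X : Scheme.{u}} [X.Over (Spec (CommRingCat.of k))]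
  [IsProper (X ↘ Spec (CommRingCat.of k))] [IsIntegral X]

theorem exists_mono_of_growth {A L : X.Modules} (hA : CohB1.IsAmple A) (hL : PicF.IsInvertible L) {n : ℕ}
    (hn : topologicalKrullDim X = (n : WithBot ℕ∞))
    (h : ∃ C : ℝ, 0 < C ∧ ∃ m₁ : ℕ, ∀ m : ℕ, m₁ ≤ m →
      C * (m : ℝ) ^ n ≤ (Module.finrank k (Coh.HH X (CohB1.tensorPow L m) 0) : ℝ)) :
    ∃ (m : ℕ) (φ : A ⟶ CohB1.tensorPow L m), 0 < m ∧ Mono φ := by
  obtain ⟨C, hC, m₁, hm₁⟩ := h
  obtain ⟨A', -, ⟨e₀⟩⟩ := H23.PicInv.exists_inverse hA.1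
  obtain ⟨e⟩ : Nonempty (CohB1.tensorMod A' A ≅ Coh.structureModule X) :=
    cl_eq_iff.1 (by rw [cl_tensor, mul_comm, ← cl_tensor]; exact cl_eq_iff.2 ⟨e₀⟩)
  obtain ⟨m, hm, τ, hτ⟩ := VolLib.exists_kodaira (k := k) hA e hL hn fun D m₀ => by
    obtain ⟨N, hN⟩ := exists_nat_gt ((D : ℝ) / C)
    refine ⟨max (max m₀ m₁) (N + 1), le_trans (le_max_left _ _) (le_max_left _ _), ?_⟩
    set M := max (max m₀ m₁) (N + 1) with hM
    have h1 := hm₁ M (le_trans (le_max_right _ _) (le_max_left _ _))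
    have hM0 : (0 : ℝ) < M := by
      have : 0 < M := lt_of_lt_of_le (Nat.succ_pos N) (le_max_right _ _)
      exact_mod_cast this
    have h2 : (D : ℝ) < C * M := by
      rw [div_lt_iff₀ hC] at hN
      have : (N : ℝ) ≤ (M : ℝ) := by exact_mod_cast (Nat.le_succ N).trans (le_max_right _ _)
      nlinarith
    have hp : (0 : ℝ) < (M : ℝ) ^ n := by positivity
    have h3 : (D : ℝ) * (M : ℝ) ^ n < (Module.finrank k (Coh.HH X (CohB1.tensorPow L M) 0) : ℝ) * M := by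
      nlinarith [mul_lt_mul_of_pos_right h2 hp, mul_le_mul_of_nonneg_right h1 hM0.le]
    exact_mod_cast h3
  obtain ⟨φ, hφ⟩ := exists_mono_of_section hA.1 (InvX.isInvertible_tensorPow hL m) e τ hτ
  exact ⟨m, φ, hm, hφ⟩

theorem exists_growth_of_mono {A L : X.Modules} (hA : CohB1.IsAmple A) (hL : PicF.IsInvertible L) {n : ℕ}
    (hn : topologicalKrullDim X = (n : WithBot ℕ∞)) {ν : ℕ} (hν : 0 < ν) (φ : A ⟶ CohB1.tensorPow L ν) [Mono φ] :
    ∃ C : ℝ, 0 < C ∧ ∃ m₁ : ℕ, ∀ m : ℕ, m₁ ≤ m →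
      C * (m : ℝ) ^ n ≤ (Module.finrank k (Coh.HH X (CohB1.tensorPow L m) 0) : ℝ) := by
  obtain ⟨A', -, ⟨e₀⟩⟩ := H23.PicInv.exists_inverse hA.1
  obtain ⟨e⟩ : Nonempty (CohB1.tensorMod A' A ≅ Coh.structureModule X) :=
    cl_eq_iff.1 (by rw [cl_tensor, mul_comm, ← cl_tensor]; exact cl_eq_iff.2 ⟨e₀⟩)
  obtain ⟨τ, hτ⟩ := exists_section_of_mono hA.1 (InvX.isInvertible_tensorPow hL ν) e φ
  obtain ⟨D, N, hD⟩ := VolLib.exists_lower_bound (k := k) hA e hL hn hν hτ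
  refine ⟨1 / (D + 1 : ℝ), by positivity, N, fun m hm => ?_⟩
  rw [div_mul_eq_mul_div, one_mul, div_le_iff₀ (by positivity)]
  have h := hD m hm
  have h' : (m : ℝ) ^ n ≤ (D : ℝ) * (Module.finrank k (Coh.HH X (CohB1.tensorPow L m) 0) : ℝ) := by exact_mod_cast h
  have h0 : (0 : ℝ) ≤ (Module.finrank k (Coh.HH X (CohB1.tensorPow L m) 0) : ℝ) := by positivity
  nlinarith

end Groth.Agent.BigMono
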