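import Groth.Agent.BigMono.TopVanish
import Groth.Agent.VolLib.GenFinite
import Groth.Agent.IntSym.PushDim
import Groth.Agent.IntSym.CurveMap
import Groth.Agent.Lib.AVAmple
import Groth.Agent.GGAmple.Basic
import Groth.Agent.H23.PicMul

/-!
# Semiample invertible modules: sections grow like the dimension of the image
-/

noncomputable section

set_option autoImplicit false
set_option linter.style.haveILetI false
set_option linter.unusedSectionVars false
set_option backward.isDefEq.respectTransparency false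
set_option backward.isDefEq.respectTransparency.types false

universe u
open CategoryTheory CategoryTheory.Limits AlgebraicGeometry TopologicalSpace
open Groth.Agent.H23.PicMul
open Groth.Agent.IntSym (sym Inv)

namespace Groth.Agent.BigMono

variable (k : Type u) [Field k]

theorem cl_pullback {X Y : Scheme.{u}} (g : X ⟶ Y) (B : Y.Modules) :
    PicF.pullCl g (PicF.cl B) = PicF.cl ((Scheme.Modules.pullback g).obj B) := rfl

/-- A dominant map into an integral scheme is injective on functions. -/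
theorem app_injective_dominant {X Y : Scheme.{u}} [IsIntegral X] [IsIntegral Y] (g : X ⟶ Y)
    (hg : g (genericPoint X) = genericPoint Y) (W : Y.Opens) : Function.Injective (g.app W) := by
  intro s t h
  rw [← sub_eq_zero, ← AlgebraicGeometry.basicOpen_eq_bot_iff, ← le_bot_iff]
  intro y hy
  have h1 : genericPoint Y ∈ Y.basicOpen (s - t) :=
    (genericPoint_specializes y).mem_open (Y.basicOpen (s - t)).isOpen hy
  rw [← hg] at h1
  have h2 : genericPoint X ∈ g ⁻¹ᵁ Y.basicOpen (s - t) := h1
  rw [Scheme.preimage_basicOpen, map_sub, h, sub_self, Scheme.basicOpen_zero] at h2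
  exact h2.elim

/-- The unit of a dominant map is injective. -/
theorem mono_unitToPush_dominant {X Y : Scheme.{u}} [IsIntegral X] [IsIntegral Y] (g : X ⟶ Y)
    (hg : g (genericPoint X) = genericPoint Y) : Mono (ClSub.unitToPush g) := by
  refine (KFlatLib.toAb Y).mono_of_mono_map ?_
  refine (TopCat.Sheaf.forget AddCommGrpCat.{u} Y).mono_of_mono_map ?_
  haveI : ∀ W : (Opens Y)ᵒᵖ, Mono (((TopCat.Sheaf.forget AddCommGrpCat.{u} Y).map
      ((KFlatLib.toAb Y).map (ClSub.unitToPush g))).app W) := fun W =>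
    (AddCommGrpCat.mono_iff_injective _).2 (app_injective_dominant g hg W.unop)
  exact NatTrans.mono_of_mono_app _

section Pull

variable {X Y : Scheme.{u}} [X.Over (Spec (CommRingCat.of k))] [IsProper (X ↘ Spec (CommRingCat.of k))]
  [Y.Over (Spec (CommRingCat.of k))] [IsProper (Y ↘ Spec (CommRingCat.of k))] [IsIntegral X] [IsIntegral Y]

/-- Sections inject under a dominant map. -/
theorem finrank_le_pullback (g : X ⟶ Y) (hg : g ≫ (Y ↘ Spec (CommRingCat.of k)) = X ↘ Spec (CommRingCat.of k))
    (hdom : g (genericPoint X) = genericPoint Y) {E : Y.Modules} (hE : PicF.IsInvertible E) :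
    Module.finrank k (Coh.HH Y E 0) ≤ Module.finrank k (Coh.HH X ((Scheme.Modules.pullback g).obj E) 0) := by
  haveI : HasInjectiveResolutions X.Modules := KFlatLib.hasInjectiveResolutions_modules
  haveI := CurveCohLib.isNoetherian_of_proper (k := k) (X := X)
  haveI := CurveCohLib.isNoetherian_of_proper (k := k) (X := Y)
  haveI : IsProper g := LerayEuler.isProper_f k g hg
  haveI := SpObjSS.enoughInjectives_of_hasInjectiveResolutions (C := X.Modules)
  haveI := QCoh.preservesFiniteLimits_push g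
  have hgE : Coh.IsCoh ((Scheme.Modules.pullback g).obj E) :=
    AmpleVan.isCoh_invertible (PicClLib.isInvertible_pullback g hE)
  have hEf : FlatMod.IsFinLocFree E := VolLib.isFinLocFree_inv hE
  obtain ⟨ep⟩ := KFlatLib.nonempty_rpush_tensor_finLocFree g (Coh.structureModule X) E hEf 0
  obtain ⟨eO⟩ : Nonempty (CohB1.tensorMod ((Scheme.Modules.pullback g).obj E) (Coh.structureModule X) ≅
      (Scheme.Modules.pullback g).obj E) := cl_eq_iff.1 (by rw [cl_tensor, ← H23.PicMul.one_def, mul_one])
  have h0 := VolLib.leray_near k g hg ((Scheme.Modules.pullback g).obj E) hgE 0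
  simp only [Finset.range_zero, Finset.sum_empty, add_zero] at h0
  refine le_trans ?_ h0.2
  let R := (Coh.Rpush g 0).obj (Coh.structureModule X)
  let e := (Scheme.Modules.pushforward g).rightDerivedZeroIsoSelf.app (Coh.structureModule X)
  haveI := mono_unitToPush_dominant g hdom
  let u : Coh.structureModule Y ⟶ R := ClSub.unitToPush g ≫ e.inv
  haveI : Mono u := mono_comp _ _
  haveI := AmpleVan.isEquivalence_tw hE
  obtain ⟨i₀⟩ : Nonempty (CohB1.tensorMod (Coh.structureModule Y) E ≅ E) := cl_eq_iff.1 (by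
    rw [cl_tensor, ← H23.PicMul.one_def, one_mul])
  obtain ⟨c⟩ := H23.PicMul.comm R E
  let φ : E ⟶ (Coh.Rpush g 0).obj ((Scheme.Modules.pullback g).obj E) :=
    i₀.inv ≫ (AmpleVan.tw E).map u ≫ c.hom ≫ ep.hom ≫ ((Coh.Rpush g 0).mapIso eO).hom
  haveI : Mono ((AmpleVan.tw E).map u) := inferInstance
  haveI : Mono φ := by
    refine @mono_comp _ _ _ _ _ _ inferInstance _ ?_
    refine @mono_comp _ _ _ _ _ _ inferInstance _ ?_
    exact inferInstance
  exact VolLib.finrank_le_of_mono (k := k) φ (LerayEuler.isCoh_R k g hg _ hgE 0)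

end Pull

section Image

variable {X : Scheme.{u}} [X.Over (Spec (CommRingCat.of k))] [IsProper (X ↘ Spec (CommRingCat.of k))]

/-- A globally generated invertible module comes from an ample module on an image. -/
theorem exists_image [IsIntegral X] {G : X.Modules} (hG : PicF.IsInvertible G)
    (hgg : Curv2.IsGloballyGenerated G) :
    ∃ (Y : Scheme.{u}) (g : X ⟶ Y) (p : Y ⟶ Spec (CommRingCat.of k)) (B : Y.Modules) (_ : IsIntegral Y),
      IsProper p ∧ g ≫ p = X ↘ Spec (CommRingCat.of k) ∧ g (genericPoint X) = genericPoint Y ∧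
        CohB1.IsAmple B ∧ Nonempty ((Scheme.Modules.pullback g).obj B ≅ G) := by
  haveI := CurveCohLib.isNoetherian_of_proper (k := k) (X := X)
  let f := X ↘ Spec (CommRingCat.of k)
  have hgen : ∀ x : X, ∃ t : Γ(G, ⊤), x ∈ H23.TrivBasic.locus t := fun x => by
    obtain ⟨s, hs⟩ := S1664.GenSec.exists_mem_genLocus hG hgg x
    exact ⟨InvX.one s, show x ∈ CohB1.genLocus G _ by rw [AVAmple.ofSect_one]; exact hs⟩
  choose t ht using hgen
  obtain ⟨S, hS⟩ := isCompact_univ.elim_finite_subcover (fun x => (H23.TrivBasic.locus (t x) : Set X))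
    (fun x => (H23.TrivBasic.locus (t x)).isOpen) (fun x _ => Set.mem_iUnion.2 ⟨x, ht x⟩)
  obtain ⟨n, hn⟩ : ∃ n, S.card = n + 1 := by
    refine Nat.exists_eq_add_one.2 (Finset.card_pos.2 ?_)
    obtain ⟨i, hi⟩ := Set.mem_iUnion.1 (hS (Set.mem_univ (genericPoint X)))
    obtain ⟨hiS, -⟩ := Set.mem_iUnion.1 hi
    exact ⟨i, hiS⟩
  let e : Fin (n + 1) ≃ S := ((finCongr hn.symm).trans S.equivFin.symm)
  have hs : ProjUP.GeneratedBy G fun i => t (e i) := AVAmple.generatedBy_of_locus _ fun x => by
    obtain ⟨i, hi⟩ := Set.mem_iUnion.1 (hS (Set.mem_univ x))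
    obtain ⟨hiS, hx⟩ := Set.mem_iUnion.1 hi
    exact ⟨e.symm ⟨i, hiS⟩, by rw [Equiv.apply_symm_apply]; exact hx⟩
  obtain ⟨r, hr, τ, -⟩ := S3572.result n f G hG _ hs
  let p := CohB1.ProjSpace.toSpec n k
  haveI hp : IsProper p := PnCoh.Chow.isProper_toSpec n k
  haveI : IsProper r := by
    haveI : IsProper (r ≫ p) := hr ▸ ‹IsProper (X ↘ Spec (CommRingCat.of k))›
    exact IsProper.of_comp r p
  classical
  let T : Finset (MvPolynomial (Fin (n + 1)) k) := Finset.univ.image MvPolynomial.X
  have hamp : CohB1.IsAmple (Twist.twistProjSpace n k 1) := by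
    refine AmpleX.isAmple_twist_one _ T (fun g hg => ?_) ?_
    · obtain ⟨i, -, rfl⟩ := Finset.mem_image.1 hg
      exact ProjPt.X_mem i
    · refine Proj.iSup_basicOpen_eq_top _ _ ((SegreX.irrelevant_le_span n k).trans ?_)
      refine Ideal.span_mono ?_
      rintro _ ⟨i, rfl⟩
      exact ⟨⟨_, Finset.mem_image.2 ⟨i, Finset.mem_univ _, rfl⟩⟩, rfl⟩
  obtain ⟨hI, hgenη⟩ := H23.P1Graph.image_integral r
  let ι := r.ker.subschemeι
  haveI : CompactSpace (CohB1.ProjSpace n k) := QuasiCompact.compactSpace_of_compactSpace p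
  haveI : CompactSpace r.ker.subscheme := QuasiCompact.compactSpace_of_compactSpace ι
  refine ⟨r.ker.subscheme, r.toImage, ι ≫ p, (Scheme.Modules.pullback ι).obj (Twist.twistProjSpace n k 1), hI,
    inferInstance, ?_, ?_, AmpleVan.isAmple_pullback_of_isEmbedding ι ι.isClosedEmbedding.isEmbedding hamp, ⟨?_⟩⟩
  · show r.toImage ≫ r.imageι ≫ p = f
    rw [Scheme.Hom.toImage_imageι_assoc, hr]
  · haveI := hI
    refine ι.isClosedEmbedding.injective ?_
    rw [hgenη]
    show (r.toImage ≫ r.imageι) (genericPoint X) = _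
    rw [r.toImage_imageι]
  · exact (Scheme.Modules.pullbackComp r.toImage ι).app _ ≪≫
      (Scheme.Modules.pullbackCongr r.toImage_imageι).app _ ≪≫ τ

/-- Symbols in a module with a power isomorphic to a given one. -/
theorem sym_pow_mul {L P : X.Modules} (hL : PicF.IsInvertible L) (hP : PicF.IsInvertible P) {p : ℕ}
    (e : P ≅ CohB1.tensorPow L p) {m : ℕ} {F : X.Modules} (hF : Coh.IsCoh F)
    (hd : topologicalKrullDim ↥(CohB1.support F) ≤ (m : WithBot ℕ∞)) :
    sym k (List.replicate m P) F = (p : ℤ) ^ m * sym k (List.replicate m L) F := by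
  have key : ∀ i j : ℕ, i + j = m → sym k (List.replicate i P ++ List.replicate j L) F =
      (p : ℤ) ^ i * sym k (List.replicate m L) F := by
    intro i
    induction i with
    | zero => intro j hj; rw [zero_add] at hj; subst hj; simp
    | succ i ih =>
      intro j hj
      have hr := inv_replicate hP i
      have hrL := inv_replicate hL j
      have hl : Inv (List.replicate i P ++ List.replicate j L) := List.forall_mem_append.2 ⟨hr, hrL⟩
      rw [sym_replicate_succ_append, IntSym.sym_congr_head k e hl,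
        IntSym.sym_tensorPow_head k hL hl hF (hd.trans (by
          rw [List.length_append, List.length_replicate, List.length_replicate]
          exact_mod_cast (by omega : m ≤ i + j + 1))),
        sym_cons_append k hL hr hrL, ← List.replicate_succ, ih (j + 1) (by omega), pow_succ]
      ring
  have h := key m 0 (add_zero m)
  rwa [List.replicate_zero, List.append_nil] at h

/-- Semiample modules are nef. -/
theorem nefC_of_semiample [IsIntegral X] {L : X.Modules} (hL : PicF.IsInvertible L) {p : ℕ} (hp : 0 < p)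
    (hgg : Curv2.IsGloballyGenerated (CohB1.tensorPow L p)) : NefC k L := by
  intro Z i _ _ hZ
  haveI := CurveCohLib.isNoetherian_of_proper (k := k) (X := X)
  obtain ⟨Y, g, q, B, hY, hq, hgq, -, hB, ⟨e⟩⟩ := exists_image k (InvX.isInvertible_tensorPow hL p) hgg
  haveI := hY
  letI : Y.Over (Spec (CommRingCat.of k)) := ⟨q⟩
  haveI : IsProper (Y ↘ Spec (CommRingCat.of k)) := hq
  haveI := CurveCohLib.isNoetherian_of_proper (k := k) (X := Y)
  have hnefB : ∀ (W : Scheme.{u}) (j : W ⟶ Y) [IsClosedImmersion j] [IsIntegral W], topologicalKrullDim W = 1 →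
      0 ≤ sym k [B] ((Coh.push j).obj (Coh.structureModule W)) := fun W j _ _ hW =>
    ((HilbPoly.mult_nonneg_and_pos k hB 1 _ (QCoh.isCoh_push_structure j)
      ((dim_support_push k j).trans hW).le).1)
  have h := IntSym.sym_pullback_nonneg k g hgq hB.1 hnefB i hZ
  have h2 := sym_pow_mul k hL (PicClLib.isInvertible_pullback g hB.1) e (m := 1)
    (QCoh.isCoh_push_structure i) ((dim_support_push k i).trans hZ).le
  rw [List.replicate_one, List.replicate_one, pow_one] at h2
  rw [h2] at h
  exact nonneg_of_mul_nonneg_right h (by exact_mod_cast hp)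

/-- The dimension of the image bounds the numerical dimension, and bounds the sections below. -/
theorem growth_of_semiample [IsIntegral X] {L : X.Modules} (hL : PicF.IsInvertible L) {p : ℕ} (hp : 0 < p)
    (hgg : Curv2.IsGloballyGenerated (CohB1.tensorPow L p)) {m : ℕ} {F : X.Modules} (hF : Coh.IsCoh F)
    (hd : topologicalKrullDim ↥(CohB1.support F) ≤ (m : WithBot ℕ∞))
    (hne : sym k (List.replicate m L) F ≠ 0) :
    ∃ ν a : ℕ, 0 < ν ∧ 0 < a ∧ ∀ μ : ℕ, 1 ≤ μ →
      μ ^ m ≤ a * Module.finrank k (Coh.HH X (CohB1.tensorPow L (ν * μ)) 0) := by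
  haveI := CurveCohLib.isNoetherian_of_proper (k := k) (X := X)
  obtain ⟨Y, g, q, B, hY, hq, hgq, hdom, hB, ⟨e⟩⟩ := exists_image k (InvX.isInvertible_tensorPow hL p) hgg
  haveI := hY
  letI : Y.Over (Spec (CommRingCat.of k)) := ⟨q⟩
  haveI : IsProper (Y ↘ Spec (CommRingCat.of k)) := hq
  haveI := CurveCohLib.isNoetherian_of_proper (k := k) (X := Y)
  obtain ⟨d, hdY⟩ : ∃ d : ℕ, topologicalKrullDim Y = (d : WithBot ℕ∞) :=
    ⟨_, VarDim.topologicalKrullDim_eq_deg_genericPoint (Y ↘ Spec (CommRingCat.of k))⟩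
  have hgB : PicF.IsInvertible ((Scheme.Modules.pullback g).obj B) := PicClLib.isInvertible_pullback g hB.1
  have hmd : m ≤ d := by
    by_contra hlt
    refine hne ?_
    have h1 := sym_pow_mul k hL hgB e hF hd
    obtain ⟨h2, h3⟩ := IntSym.sym_pullback_push k g hgq (fun _ : Fin m => B) (fun _ => hB.1) hF hd
    rw [List.ofFn_const, List.ofFn_const] at h2
    rw [h2, IntSym.sym_eq_zero k (inv_replicate hB.1 m) h3 (by
      rw [List.length_replicate]
      refine lt_of_le_of_lt (Topology.IsInducing.subtypeVal.topologicalKrullDim_le.trans hdY.le) ?_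
      exact_mod_cast not_le.1 hlt)] at h1
    rcases mul_eq_zero.1 h1.symm with h | h
    · exact absurd (eq_zero_of_pow_eq_zero h) (by exact_mod_cast hp.ne')
    · exact h
  obtain ⟨D, m₁, hD⟩ := VolLib.exists_lower_ample (k := k) hB hdY
  refine ⟨p * (m₁ + 1), D + 1, Nat.mul_pos hp (Nat.succ_pos _), Nat.succ_pos _, fun μ hμ => ?_⟩
  have hj : m₁ ≤ (m₁ + 1) * μ := le_trans (Nat.le_succ _) (Nat.le_mul_of_pos_right _ hμ)
  have h1 : μ ^ m ≤ ((m₁ + 1) * μ) ^ d :=
    (Nat.pow_le_pow_right hμ hmd).trans (Nat.pow_le_pow_left (Nat.le_mul_of_pos_left _ (Nat.succ_pos _)) _)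
  have h2 := finrank_le_pullback k g hgq hdom (InvX.isInvertible_tensorPow hB.1 ((m₁ + 1) * μ))
  have h3 : Module.finrank k (Coh.HH X ((Scheme.Modules.pullback g).obj (CohB1.tensorPow B ((m₁ + 1) * μ))) 0) =
      Module.finrank k (Coh.HH X (CohB1.tensorPow L (p * (m₁ + 1) * μ)) 0) :=
    VolLib.finrank_congr_cl (by
      obtain ⟨a⟩ := IntNum.pullback_tensorPow g B ((m₁ + 1) * μ)
      rw [cl_eq_iff.2 ⟨a⟩, cl_tensorPow, cl_eq_iff.2 ⟨e⟩, cl_tensorPow, cl_tensorPow, ← pow_mul, mul_assoc])
  rw [h3] at h2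
  calc μ ^ m ≤ ((m₁ + 1) * μ) ^ d := h1
    _ ≤ D * Module.finrank k (Coh.HH Y (CohB1.tensorPow B ((m₁ + 1) * μ)) 0) := hD _ hj
    _ ≤ (D + 1) * _ := Nat.mul_le_mul (Nat.le_succ D) h2

end Image

end Groth.Agent.BigMono
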