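import Groth.Agent.BigMono.NefPos
import Groth.Agent.BigMono.Basic
import Groth.Agent.VolLib.HiGrowth
import Groth.Agent.InvX.GenLocusPull
import Groth.Agent.AmpleX.Generated

/-!
# The elementary lower bound `h⁰(m(F - G)) ≥ (F^n - n F^(n-1) G) m^n / n! + O(m^(n-1))`
-/

noncomputable section

set_option autoImplicit false
set_option linter.style.haveILetI false
set_option linter.unusedSectionVars false
set_option backward.isDefEq.respectTransparency false
set_option backward.isDefEq.respectTransparency.types false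

universe u
open CategoryTheory CategoryTheory.Limits AlgebraicGeometry TopologicalSpace
open Groth.Agent.H23.PicMul
open Groth.Agent.IntSym (sym Inv)
open Groth.Agent.HilbPoly (pw)

namespace Groth.Agent.BigMono

variable (k : Type u) [Field k] {X : Scheme.{u}} [X.Over (Spec (CommRingCat.of k))]
  [IsProper (X ↘ Spec (CommRingCat.of k))]

/-- Sections generate at every point. -/
def Gen (G : X.Modules) : Prop :=
  ∀ x : X, ∃ s : Coh.structureModule X ⟶ G, x ∈ CohB1.genLocus G s

theorem exists_gen_pow {A : X.Modules} [CompactSpace X] [X.IsSeparated] (hA : CohB1.IsAmple A) :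
    ∃ a : ℕ, 0 < a ∧ Gen (CohB1.tensorPow A a) := by
  obtain ⟨a, ha, κ, _, σ, -, -, hcov⟩ := AmpleX.exists_cover_genLocus hA
  exact ⟨a, ha, fun x => ⟨σ (hcov x).choose, (hcov x).choose_spec⟩⟩

/-- The generating locus of the zero section is empty. -/
theorem notMem_genLocus_zero {G : X.Modules} (hG : PicF.IsInvertible G) (x : X) :
    x ∉ CohB1.genLocus G (0 : Coh.structureModule X ⟶ G) := by
  intro hx
  obtain ⟨U, hxU, e, he⟩ := InvX.exists_frame hG x
  obtain ⟨g, hg⟩ := he.exists_coord le_rfl (AModX.res G (le_top : U ≤ ⊤) (InvX.one (0 : Coh.structureModule X ⟶ G)))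
  rw [AModX.res_self] at hg
  have hg0 : g = 0 := he.coord_unique le_rfl (by
    rw [zero_smul, AModX.res_self, ← hg]
    exact map_zero _)
  subst hg0
  have h : x ∈ X.basicOpen (0 : Γ(X, U)) := (InvX.genLocus_inf _ he hg).le ⟨hx, hxU⟩
  rw [Scheme.basicOpen_zero] at h
  exact h

/-- Cohomology in degree zero of a twisted direct image. -/
theorem finrank_push_tensor {Z : Scheme.{u}} (i : Z ⟶ X) [IsClosedImmersion i] [Z.Over (Spec (CommRingCat.of k))]
    (hi : i ≫ (X ↘ Spec (CommRingCat.of k)) = Z ↘ Spec (CommRingCat.of k))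
    [IsProper (Z ↘ Spec (CommRingCat.of k))] {P : X.Modules} (hP : PicF.IsInvertible P) :
    Module.finrank k (Coh.HH X (CohB1.tensorMod ((Coh.push i).obj (Coh.structureModule Z)) P) 0) =
      Module.finrank k (Coh.HH Z ((Scheme.Modules.pullback i).obj P) 0) := by
  obtain ⟨e⟩ := IntNum.push_tensor i (Coh.structureModule Z) P
  obtain ⟨u⟩ : Nonempty (CohB1.tensorMod (Coh.structureModule Z) ((Scheme.Modules.pullback i).obj P) ≅
      (Scheme.Modules.pullback i).obj P) := cl_eq_iff.1 (by rw [cl_tensor, ← H23.PicMul.one_def, one_mul])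
  obtain ⟨l⟩ := QCoh.HH_push_linear i (Coh.toGlobal (X ↘ Spec (CommRingCat.of k)))
    (Coh.toGlobal (Z ↘ Spec (CommRingCat.of k))) (fun a => by rw [← hi]; rfl)
    (M := CohB1.tensorMod (Coh.structureModule Z) ((Scheme.Modules.pullback i).obj P))
    (KFlatLib.isQCoh_tensor QCoh.isQCoh_structureModule (PicClLib.isInvertible_pullback i hP |>
      ProjUPX.isQCoh_of_isInvertible)) 0
  rw [← HilbPoly.finrank_HH_iso k e 0, ← LinearEquiv.finrank_eq l, HilbPoly.finrank_HH_iso k u 0]

/-- Twisting down by a generated module loses sections on every subvariety. -/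
theorem finrank_push_twist_le {Z : Scheme.{u}} (i : Z ⟶ X) [IsClosedImmersion i] [IsIntegral Z]
    {G P Q : X.Modules} (hG : PicF.IsInvertible G) (hgen : Gen G) (hP : PicF.IsInvertible P)
    (hQ : PicF.IsInvertible Q) (j : ℕ) (hc : PicF.cl P * PicF.cl G ^ j = PicF.cl Q) :
    Module.finrank k (Coh.HH X (CohB1.tensorMod ((Coh.push i).obj (Coh.structureModule Z)) P) 0) ≤
      Module.finrank k (Coh.HH X (CohB1.tensorMod ((Coh.push i).obj (Coh.structureModule Z)) Q) 0) := by
  letI : Z.Over (Spec (CommRingCat.of k)) := ⟨i ≫ (X ↘ Spec (CommRingCat.of k))⟩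
  haveI : IsProper (Z ↘ Spec (CommRingCat.of k)) :=
    show IsProper (i ≫ (X ↘ Spec (CommRingCat.of k))) from inferInstance
  rw [finrank_push_tensor k i rfl hP, finrank_push_tensor k i rfl hQ]
  have hGZ := PicClLib.isInvertible_pullback i hG
  obtain ⟨s, hs⟩ := hgen (i (genericPoint Z))
  let e : Coh.structureModule Z ≅ (Scheme.Modules.pullback i).obj (Coh.structureModule X) := (CurveBC.unitIso i).symm
  let sZ : Coh.structureModule Z ⟶ (Scheme.Modules.pullback i).obj G := e.hom ≫ (Scheme.Modules.pullback i).map s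
  have hmem : genericPoint Z ∈ CohB1.genLocus _ sZ := by
    rw [InvX.genLocus_pullback i hG s e]
    exact hs
  have hτ : InvX.one sZ ≠ 0 := by
    intro h0
    have hz : sZ = 0 := by
      by_contra hne
      haveI := InvEnd.mono_of_ne_zero InvX.isInvertible_structureModule hGZ sZ hne
      exact one_ne_zero (α := Γ(Z, ⊤)) (ZClosLib.app_injective_of_mono sZ ⊤ (h0.trans (map_zero _).symm))
    rw [hz] at hmem
    exact notMem_genLocus_zero hGZ _ hmem
  obtain ⟨σ, hσ⟩ := VolLib.exists_pow_ne_zero hGZ (InvX.one sZ) hτ j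
  have h := VolLib.finrank_le_tensor (k := k)
    (VolLib.isFinLocFree_inv (PicClLib.isInvertible_pullback i hP))
    (VolLib.isFinLocFree_inv (InvX.isInvertible_tensorPow hGZ j)) σ hσ
  refine h.trans (le_of_eq ?_)
  obtain ⟨a⟩ := IntNum.pullback_tensorPow i G j
  obtain ⟨b⟩ : Nonempty (CohB1.tensorMod P (CohB1.tensorPow G j) ≅ Q) :=
    cl_eq_iff.1 (by rw [cl_tensor, cl_tensorPow, hc])
  exact HilbPoly.finrank_HH_iso k (PicGrp.tensorModIso (Iso.refl _) a.symm ≪≫ (IntNum.pullTensor i P _).symm ≪≫
    (Scheme.Modules.pullback i).mapIso b) 0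

/-- Uniform bound for the sections of the twists of a coherent module. -/
theorem exists_twist_bound {G G' F : X.Modules} (hG : PicF.IsInvertible G) (hgen : Gen G)
    (hG' : PicF.IsInvertible G') (hinv : PicF.cl G' * PicF.cl G = 1) (hF : CohB1.IsAmple F) {d : ℕ}
    {Q : X.Modules} (hQ : Coh.IsCoh Q) (hd : topologicalKrullDim ↥(CohB1.support Q) ≤ (d : WithBot ℕ∞)) :
    ∃ (P : Polynomial ℚ) (v : ℕ), P.natDegree ≤ d ∧
      StabCat.alpha d P = (sym k (List.replicate d F) Q : ℚ) ∧
      ∀ m, v ≤ m → ∀ j, (Module.finrank k (Coh.HH X (CohB1.tensorMod Q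
          (CohB1.tensorMod (CohB1.tensorPow G' j) (CohB1.tensorPow F m))) 0) : ℚ) ≤ P.eval (m : ℚ) := by
  haveI := CurveCohLib.isNoetherian_of_proper (k := k) (X := X)
  have hl : Inv (List.replicate d F) := fun M hM => by rw [List.eq_of_mem_replicate hM]; exact hF.1
  have hA := IntSym.additive_sym k hl
  have hsmall : ∀ M : X.Modules, Coh.IsCoh M → HilbPoly.DimLT M d → sym k (List.replicate d F) M = 0 :=
    fun M hM hdM => IntSym.sym_eq_zero k hl hM (by rw [List.length_replicate]; exact hdM)
  induction QCoh.filt_of_isCoh hQ with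
  | @zero N h0 =>
    refine ⟨0, 0, by simp, ?_, fun m _ j => ?_⟩
    · rw [hA.zero_of_isZero h0]; simp [StabCat.alpha]
    · haveI := Euler.subsingleton_HH_of_isZero ((AmpleVan.tw (CohB1.tensorMod (CohB1.tensorPow G' j)
        (CohB1.tensorPow F m))).map_isZero h0) 0
      change (Module.finrank k (Coh.HH X ((AmpleVan.tw (CohB1.tensorMod (CohB1.tensorPow G' j)
        (CohB1.tensorPow F m))).obj N) 0) : ℚ) ≤ _
      rw [Module.finrank_zero_of_subsingleton]; simp
  | @step N M' φ _ _ hNc hMc hex ih =>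
    obtain ⟨Z, i, hi, hZ, I, ι, hι, hI, hI0, ⟨e⟩⟩ := hex
    haveI := hi; haveI := hZ; haveI := hι
    have hc := QCoh.isCoh_cokernel hNc.1 hMc φ
    have hsN : CohB1.support N ⊆ CohB1.support M' := QCoh.mem_support_of_mono hNc.1 hMc.1 φ
    obtain ⟨P₁, v₁, hP₁, ha₁, hb₁⟩ := ih hNc ((H23.TopDim.dim_le_dim_of_subset hsN).trans hd)
    set ξ := i (genericPoint Z) with hξdef
    have hr : Set.range i = closure {ξ} := QCoh.range_eq_closure i
    have hsI : CohB1.support ((Coh.push i).obj I) = closure {ξ} := QCoh.support_push_ideal i ι hI hI0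
    have hξd : topologicalKrullDim ↥(closure ({ξ} : Set X)) ≤ (d : WithBot ℕ∞) := by
      rw [← hsI, ← QCoh.support_iso e hc.1]
      exact (H23.TopDim.dim_le_dim_of_subset (QCoh.support_of_epi hMc.1 hc.1 (cokernel.π φ))).trans hd
    have hO : Coh.IsCoh ((Coh.push i).obj (Coh.structureModule Z)) := QCoh.isCoh_push_structure i
    have hIc : Coh.IsCoh ((Coh.push i).obj I) := QCoh.isCoh_of_mono (e.inv) hc (QCoh.isQCoh_pushforward i hI)
    haveI : Mono ((Coh.push i).map ι) := Functor.map_mono _ ι
    have hK := QCoh.isCoh_cokernel hIc.1 hO ((Coh.push i).map ι)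
    have hKd : HilbPoly.DimLT (cokernel ((Coh.push i).map ι)) d :=
      HilbPoly.dim_lt_closure hξd (QCoh.isClosed_support_of_isFT hK.1 hK.2)
        ((QCoh.support_of_epi hO.1 hK.1 (cokernel.π _)).trans
          (hr ▸ QCoh.support_push_subset i QCoh.isQCoh_structureModule))
        (QCoh.mem_support_push_ideal i ι hI hI0).2
    have hSI : (ShortComplex.mk ((Coh.push i).map ι) (cokernel.π _) (cokernel.condition _)).ShortExact :=
      .mk' (ShortComplex.exact_of_g_is_cokernel _ (cokernelIsCokernel _)) ‹_› inferInstance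
    have hSM : (ShortComplex.mk φ (cokernel.π φ) (cokernel.condition φ)).ShortExact :=
      .mk' (ShortComplex.exact_of_g_is_cokernel _ (cokernelIsCokernel φ)) ‹_› inferInstance
    have h1 := hA.add _ hSM hNc hMc hc
    change sym k (List.replicate d F) M' = sym k (List.replicate d F) N + sym k (List.replicate d F) (cokernel φ) at h1
    have h2 := hA.add _ hSI hIc hO hK
    change sym k (List.replicate d F) ((Coh.push i).obj (Coh.structureModule Z)) =
      sym k (List.replicate d F) ((Coh.push i).obj I) + sym k (List.replicate d F) (cokernel ((Coh.push i).map ι)) at h2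
    rw [hsmall _ hK hKd, add_zero] at h2
    have hOd : topologicalKrullDim ↥(CohB1.support ((Coh.push i).obj (Coh.structureModule Z))) ≤ (d : WithBot ℕ∞) :=
      (H23.TopDim.dim_le_dim_of_subset (hr ▸ QCoh.support_push_subset i QCoh.isQCoh_structureModule)).trans hξd
    obtain ⟨P₂, hP₂, hdeg₂, ha₂⟩ := HilbPoly.exists_poly (HilbPoly.additive_euler k) hF.1 hO hOd
    obtain ⟨v₂, hv₂⟩ := AmpleVan.exists_vanishing (A := k) hF hO
    refine ⟨P₁ + P₂, max v₁ v₂, (Polynomial.natDegree_add_le _ _).trans (max_le hP₁ hdeg₂), ?_, fun m hm j => ?_⟩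
    · rw [StabCat.alpha, Polynomial.coeff_add, mul_add, ← StabCat.alpha, ← StabCat.alpha, ha₁, ha₂, h1,
        IntSym.sym_iso k hl e, ← h2]
      push_cast
      rfl
    have hR : PicF.IsInvertible (CohB1.tensorMod (CohB1.tensorPow G' j) (CohB1.tensorPow F m)) :=
      InvX.isInvertible_tensorMod (InvX.isInvertible_tensorPow hG' j) (InvX.isInvertible_tensorPow hF.1 m)
    have hRc : ∀ {M : X.Modules}, Coh.IsCoh M →
        Coh.IsCoh (CohB1.tensorMod M (CohB1.tensorMod (CohB1.tensorPow G' j) (CohB1.tensorPow F m))) :=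
      fun hM => AmpleVan.isCoh_tensor hM (AmpleVan.isCoh_invertible hR)
    haveI := AmpleVan.isEquivalence_tw hR
    haveI : (AmpleVan.tw (CohB1.tensorMod (CohB1.tensorPow G' j) (CohB1.tensorPow F m))).Additive :=
      Functor.additive_of_preserves_binary_products _
    have hmid := VolLib.hh_mid_le (k := k)
      (hSM.map_of_exact (AmpleVan.tw (CohB1.tensorMod (CohB1.tensorPow G' j) (CohB1.tensorPow F m))))
      (hRc hNc) (hRc hMc) (hRc hc) 0
    haveI : Module.Finite k (Coh.HH X ((ShortComplex.mk ((Coh.push i).map ι) (cokernel.π _) (cokernel.condition _)).map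
        (AmpleVan.tw (CohB1.tensorMod (CohB1.tensorPow G' j) (CohB1.tensorPow F m)))).X₂ 0) :=
      CurveCohLib.finite_HH (k := k) (hRc hO) 0
    have hleft := LinearMap.finrank_le_finrank_of_injective (CurveCohLib.mapLin_f_zero_injective (A := k)
      (hSI.map_of_exact (AmpleVan.tw (CohB1.tensorMod (CohB1.tensorPow G' j) (CohB1.tensorPow F m)))))
    have hiso := HilbPoly.finrank_HH_iso k
      ((AmpleVan.tw (CohB1.tensorMod (CohB1.tensorPow G' j) (CohB1.tensorPow F m))).mapIso e) 0
    have htwist := finrank_push_twist_le k i hG hgen hR (InvX.isInvertible_tensorPow hF.1 m) j (by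
      rw [cl_tensor, cl_tensorPow, cl_tensorPow, mul_right_comm, ← mul_pow, hinv, one_pow, one_mul])
    have hchi : (Module.finrank k (Coh.HH X (CohB1.tensorMod ((Coh.push i).obj (Coh.structureModule Z))
        (CohB1.tensorPow F m)) 0) : ℚ) = P₂.eval (m : ℚ) := by
      rw [← hP₂ m, CurveCohLib.euler_eq_sum (k := k) (N := 1) (fun q hq => by
        obtain ⟨q', rfl⟩ := Nat.exists_eq_add_of_le' hq
        exact hv₂ m (le_of_max_le_right hm) q')]
      simp only [Finset.range_one, Finset.sum_singleton, pow_zero, one_mul]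
      rfl
    have hn1 := hb₁ m (le_of_max_le_left hm) j
    rw [Polynomial.eval_add, ← hchi]
    refine le_trans ?_ (add_le_add hn1 le_rfl)
    have hle := hmid.trans (Nat.add_le_add_left (hiso.le.trans (hleft.trans htwist)) _)
    exact_mod_cast hle

/-- Siu's bound. -/
theorem exists_lower_sub [IsIntegral X] {G G' F : X.Modules} (hG : PicF.IsInvertible G) (hgen : Gen G)
    (hG' : PicF.IsInvertible G') (hinv : PicF.cl G' * PicF.cl G = 1) (hF : CohB1.IsAmple F) {n : ℕ}
    (hn : topologicalKrullDim X = ((n + 1 : ℕ) : WithBot ℕ∞))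
    (hpos : (n + 1 : ℤ) * sym k (G :: List.replicate n F) (Coh.structureModule X) <
      sym k (List.replicate (n + 1) F) (Coh.structureModule X)) :
    ∃ D m₀ : ℕ, ∀ m, m₀ ≤ m → m ^ (n + 1) ≤
      D * Module.finrank k (Coh.HH X (CohB1.tensorMod (CohB1.tensorPow G' m) (CohB1.tensorPow F m)) 0) := by
  haveI := CurveCohLib.isNoetherian_of_proper (k := k) (X := X)
  obtain ⟨s, hs⟩ := hgen (genericPoint X)
  haveI : Mono s := InvEnd.mono_of_ne_zero InvX.isInvertible_structureModule hG s (fun h => by
    rw [h] at hs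
    exact notMem_genLocus_zero hG _ hs)
  have hO : Coh.IsCoh (Coh.structureModule X) := QCoh.isCoh_structureModule'
  have hGc := AmpleVan.isCoh_invertible hG
  have hQ := QCoh.isCoh_cokernel hO.1 hGc s
  have hS : (ShortComplex.mk s (cokernel.π s) (cokernel.condition s)).ShortExact :=
    .mk' (ShortComplex.exact_of_g_is_cokernel _ (cokernelIsCokernel s)) ‹_› inferInstance
  haveI := NakaiMo.isIso_stalk hG s
  have hη : genericPoint X ∉ CohB1.support (cokernel s) := Snapper.notMem_support_cokernel s inferInstance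
  have hlt := H23.TopDim.dim_lt_of_ssubset (X := X) (by rw [hn]; exact WithBot.coe_inj.not.2 (ENat.coe_ne_top _))
    (QCoh.isClosed_support_of_isFT hQ.1 hQ.2) (fun h => hη (h ▸ Set.mem_univ _))
  rw [hn] at hlt
  have hQd : topologicalKrullDim ↥(CohB1.support (cokernel s)) ≤ (n : WithBot ℕ∞) :=
    HilbPoly.le_of_lt_succ (by exact_mod_cast hlt)
  have hl : Inv (List.replicate n F) := fun M hM => by rw [List.eq_of_mem_replicate hM]; exact hF.1
  have hsymQ : sym k (G :: List.replicate n F) (Coh.structureModule X) = sym k (List.replicate n F) (cokernel s) := by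
    have hadd := (IntSym.additive_sym k hl).add _ hS hO hGc hQ
    change sym k (List.replicate n F) G = sym k (List.replicate n F) (Coh.structureModule X) +
      sym k (List.replicate n F) (cokernel s) at hadd
    obtain ⟨u⟩ : Nonempty (CohB1.tensorMod (Coh.structureModule X) G ≅ G) :=
      cl_eq_iff.1 (by rw [cl_tensor, ← H23.PicMul.one_def, one_mul])
    have hu : sym k (List.replicate n F) ((AmpleVan.tw G).obj (Coh.structureModule X)) =
        sym k (List.replicate n F) G := IntSym.sym_iso k hl u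
    rw [IntSym.sym_cons, hu]
    linarith
  obtain ⟨P, v, hPdeg, hPa, hPb⟩ := exists_twist_bound k hG hgen hG' hinv hF hQ hQd
  have hdimO : topologicalKrullDim ↥(CohB1.support (Coh.structureModule X)) = ((n + 1 : ℕ) : WithBot ℕ∞) :=
    dim_support_structure.trans hn
  obtain ⟨PO, hPO, hPOdeg, hPOa⟩ := HilbPoly.exists_poly (HilbPoly.additive_euler k) hF.1 hO hdimO.le
  obtain ⟨v', hv'⟩ := AmpleVan.exists_vanishing (A := k) hF hO
  let R : Polynomial ℚ := PO - Polynomial.X * P
  have hRdeg : R.natDegree ≤ n + 1 := (Polynomial.natDegree_sub_le _ _).trans (max_le hPOdeg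
    (Polynomial.natDegree_mul_le.trans (by rw [Polynomial.natDegree_X]; omega)))
  have hc : 0 < R.coeff (n + 1) := by
    rw [Polynomial.coeff_sub, Polynomial.coeff_X_mul]
    rw [StabCat.alpha] at hPa hPOa
    have h1 : ((n + 1 : ℤ) : ℚ) * (sym k (G :: List.replicate n F) (Coh.structureModule X) : ℚ) <
        (sym k (List.replicate (n + 1) F) (Coh.structureModule X) : ℚ) := by exact_mod_cast hpos
    rw [hsymQ, ← hPa] at h1
    have h2 : ((n + 1).factorial : ℚ) * PO.coeff (n + 1) =
        (sym k (List.replicate (n + 1) F) (Coh.structureModule X) : ℚ) := hPOa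
    rw [← h2, Nat.factorial_succ] at h1
    push_cast at h1
    have hpf : (0 : ℚ) < (n + 1 : ℚ) * (n.factorial : ℚ) := by positivity
    nlinarith
  obtain ⟨D, m₁, hD⟩ := VolLib.exists_lower_poly R hRdeg hc
  refine ⟨D, max m₁ (max v v'), fun m hm => ?_⟩
  have hm₁ : m₁ ≤ m := le_of_max_le_left hm
  have hv : v ≤ m := le_trans (le_max_left _ _) (le_of_max_le_right hm)
  have hv'm : v' ≤ m := le_trans (le_max_right _ _) (le_of_max_le_right hm)
  let W := fun j : ℕ => CohB1.tensorMod (CohB1.tensorPow G' j) (CohB1.tensorPow F m)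
  have hW : ∀ j, PicF.IsInvertible (W j) := fun j =>
    InvX.isInvertible_tensorMod (InvX.isInvertible_tensorPow hG' j) (InvX.isInvertible_tensorPow hF.1 m)
  have hstep : ∀ j, (Module.finrank k (Coh.HH X (W j) 0) : ℚ) ≤
      (Module.finrank k (Coh.HH X (W (j + 1)) 0) : ℚ) + P.eval (m : ℚ) := by
    intro j
    haveI := AmpleVan.isEquivalence_tw (hW (j + 1))
    haveI : (AmpleVan.tw (W (j + 1))).Additive := Functor.additive_of_preserves_binary_products _
    have hco : ∀ {M : X.Modules}, Coh.IsCoh M → Coh.IsCoh (CohB1.tensorMod M (W (j + 1))) :=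
      fun hM => AmpleVan.isCoh_tensor hM (AmpleVan.isCoh_invertible (hW (j + 1)))
    have h : Module.finrank k (Coh.HH X (CohB1.tensorMod G (W (j + 1))) 0) ≤
        Module.finrank k (Coh.HH X (CohB1.tensorMod (Coh.structureModule X) (W (j + 1))) 0) +
          Module.finrank k (Coh.HH X (CohB1.tensorMod (cokernel s) (W (j + 1))) 0) :=
      VolLib.hh_mid_le (k := k) (hS.map_of_exact (AmpleVan.tw (W (j + 1)))) (hco hO) (hco hGc) (hco hQ) 0
    rw [VolLib.finrank_congr_cl (k := k) (E := CohB1.tensorMod G (W (j + 1))) (F := W j) (by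
        simp only [W, cl_tensor, cl_tensorPow]
        calc PicF.cl G * (PicF.cl G' ^ (j + 1) * PicF.cl F ^ m)
            = (PicF.cl G' * PicF.cl G) * (PicF.cl G' ^ j * PicF.cl F ^ m) := by
              rw [pow_succ]; simp only [mul_comm, mul_assoc, mul_left_comm]
          _ = _ := by rw [hinv, one_mul]),
      VolLib.finrank_congr_cl (k := k) (E := CohB1.tensorMod (Coh.structureModule X) (W (j + 1))) (F := W (j + 1))
        (by rw [cl_tensor, ← H23.PicMul.one_def, one_mul])] at h
    have hb := hPb m hv (j + 1)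
    have h' : (Module.finrank k (Coh.HH X (W j) 0) : ℚ) ≤ (Module.finrank k (Coh.HH X (W (j + 1)) 0) : ℚ) +
        (Module.finrank k (Coh.HH X (CohB1.tensorMod (cokernel s) (W (j + 1))) 0) : ℚ) := by exact_mod_cast h
    exact h'.trans (add_le_add le_rfl hb)
  have hsum : ∀ j : ℕ, (Module.finrank k (Coh.HH X (W 0) 0) : ℚ) ≤
      (Module.finrank k (Coh.HH X (W j) 0) : ℚ) + (j : ℚ) * P.eval (m : ℚ) := by
    intro j
    induction j with
    | zero => simp
    | succ j ih => have := hstep j; push_cast; linarith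
  have h0 : (Module.finrank k (Coh.HH X (W 0) 0) : ℚ) = PO.eval (m : ℚ) := by
    rw [← hPO m, CurveCohLib.euler_eq_sum (k := k) (N := 1) (fun q hq => by
      obtain ⟨q', rfl⟩ := Nat.exists_eq_add_of_le' hq
      exact hv' m hv'm q')]
    simp only [Finset.range_one, Finset.sum_singleton, pow_zero, one_mul]
    rfl
  have hfin := hsum m
  rw [h0] at hfin
  have hDm := hD m hm₁
  simp only [R, Polynomial.eval_sub, Polynomial.eval_mul, Polynomial.eval_X] at hDm
  have hq : (m : ℚ) ^ (n + 1) ≤ (D : ℚ) * (Module.finrank k (Coh.HH X (W m) 0) : ℚ) :=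
    hDm.trans (mul_le_mul_of_nonneg_left (by linarith) (by positivity))
  exact_mod_cast hq

end Groth.Agent.BigMono
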