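import Groth.Agent.BigMono.NefBig

/-!
# Nef modules with numerically trivial powers
-/

noncomputable section

set_option autoImplicit false
set_option linter.style.haveILetI false
set_option linter.unusedSectionVars false
set_option backward.isDefEq.respectTransparency false
set_option backward.isDefEq.respectTransparency.types false

universe u
open CategoryTheory CategoryTheory.Limits AlgebraicGeometry TopologicalSpace
open Groth.Agent.H23.PicMul
open Groth.Agent.IntSym (sym Inv)

namespace Groth.Agent.BigMono

variable (k : Type u) [Field k]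

section Basic

variable {X : Scheme.{u}} [X.Over (Spec (CommRingCat.of k))] [IsProper (X ↘ Spec (CommRingCat.of k))]

theorem inv_replicate {L : X.Modules} (hL : PicF.IsInvertible L) (n : ℕ) : Inv (List.replicate n L) :=
  fun M hM => by rw [List.eq_of_mem_replicate hM]; exact hL

/-- Symbols of an inverse. -/
theorem sym_replicate_inverse {L Linv : X.Modules} (hL : PicF.IsInvertible L)
    (hLi : PicF.IsInvertible Linv) (e : CohB1.tensorMod Linv L ≅ Coh.structureModule X) {n : ℕ}
    {F : X.Modules} (hF : Coh.IsCoh F) (hd : topologicalKrullDim ↥(CohB1.support F) ≤ (n : WithBot ℕ∞)) :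
    sym k (List.replicate n Linv) F = (-1) ^ n * sym k (List.replicate n L) F := by
  have key : ∀ i j : ℕ, i + j = n → sym k (List.replicate i Linv ++ List.replicate j L) F =
      (-1) ^ i * sym k (List.replicate n L) F := by
    intro i
    induction i with
    | zero => intro j hj; rw [zero_add] at hj; subst hj; simp
    | succ i ih =>
      intro j hj
      have hr := inv_replicate hLi i
      have hrL := inv_replicate hL j
      rw [sym_replicate_succ_append, IntSym.sym_inverse_head k hLi hL e (List.forall_mem_append.2 ⟨hr, hrL⟩) hF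
          (hd.trans (by
            rw [List.length_append, List.length_replicate, List.length_replicate]
            exact_mod_cast (by omega : n ≤ i + j + 1))),
        sym_cons_append k hL hr hrL, ← List.replicate_succ, ih (j + 1) (by omega), pow_succ]
      ring
  have h := key n 0 (add_zero n)
  rwa [List.replicate_zero, List.append_nil] at h

/-- Intersection numbers of inverses on a subvariety. -/
theorem intNum_push_inverse {L Linv : X.Modules} (hL : PicF.IsInvertible L) (hinv : ClSub.IsInverseOf Linv L)
    {d n : ℕ} (hX : topologicalKrullDim X ≤ (d : WithBot ℕ∞)) {W : Scheme.{u}} (i : W ⟶ X) [IsClosedImmersion i]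
    [IsIntegral W] (hW : topologicalKrullDim W = (n : WithBot ℕ∞)) :
    FGA.intNum k X d (fun _ : Fin n => Linv) ((Coh.push i).obj (Coh.structureModule W)) =
      sym k (List.replicate n L) ((Coh.push i).obj (Coh.structureModule W)) := by
  haveI := CurveCohLib.isNoetherian_of_proper (k := k) (X := X)
  obtain ⟨e⟩ : Nonempty (CohB1.tensorMod Linv L ≅ Coh.structureModule X) := hinv
  obtain ⟨D, hD, ⟨u⟩⟩ := H23.PicInv.exists_inverse hL
  have hLi : PicF.IsInvertible Linv := by
    obtain ⟨v⟩ : Nonempty (Linv ≅ D) := cl_eq_iff.1 (by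
      have h1 : PicF.cl L * PicF.cl Linv = 1 := by
        rw [mul_comm, ← cl_tensor, H23.PicMul.one_def]; exact cl_eq_iff.2 ⟨e⟩
      have h2 : PicF.cl L * PicF.cl D = 1 := by
        rw [← cl_tensor, H23.PicMul.one_def]; exact cl_eq_iff.2 ⟨u⟩
      exact (isUnit_cl hL).mul_left_cancel (h1.trans h2.symm))
    exact isInvertible_of_iso v.symm hD
  have hF : Coh.IsCoh ((Coh.push i).obj (Coh.structureModule W)) := QCoh.isCoh_push_structure i
  rw [IntSym.intNum_eq k hX _ (fun _ => hLi) hF, List.ofFn_const,
    sym_replicate_inverse k hL hLi e hF ((dim_support_push k i).trans hW).le, ← mul_assoc, ← mul_pow]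
  norm_num

/-- Vanishing on the subvarieties of dimension `d` gives it on all coherent modules. -/
theorem eq_zero_of_integral {l : List X.Modules} (hl : Inv l) {d : ℕ} (hlen : l.length = d)
    (h : ∀ (Z : Scheme.{u}) (i : Z ⟶ X) [IsClosedImmersion i] [IsIntegral Z], topologicalKrullDim Z = d →
      sym k l ((Coh.push i).obj (Coh.structureModule Z)) = 0)
    {M : X.Modules} (hM : Coh.IsCoh M) (hd : topologicalKrullDim ↥(CohB1.support M) ≤ (d : WithBot ℕ∞)) :
    sym k l M = 0 := by
  haveI := CurveCohLib.isNoetherian_of_proper (k := k) (X := X)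
  have hA := IntSym.additive_sym k hl
  have hsmall : ∀ G : X.Modules, Coh.IsCoh G → HilbPoly.DimLT G d → sym k l G = 0 := fun G hG hdG =>
    IntSym.sym_eq_zero k hl hG (by rw [hlen]; exact hdG)
  induction QCoh.filt_of_isCoh hM with
  | @zero N h0 => exact hA.zero_of_isZero h0
  | @step N M' φ _ _ hNc hMc hex ih =>
    obtain ⟨Z, i, hi, hZ, I, ι, hι, hI, hI0, ⟨e⟩⟩ := hex
    haveI := hi; haveI := hZ; haveI := hι
    have hc := QCoh.isCoh_cokernel hNc.1 hMc φ
    have hsN : CohB1.support N ⊆ CohB1.support M' := QCoh.mem_support_of_mono hNc.1 hMc.1 φ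
    have h1 := hA.add (ShortComplex.mk φ (cokernel.π φ) (cokernel.condition φ))
      (.mk' (ShortComplex.exact_of_g_is_cokernel _ (cokernelIsCokernel φ)) ‹_› inferInstance) hNc hMc hc
    change sym k l M' = sym k l N + sym k l (cokernel φ) at h1
    rw [h1, ih hNc ((H23.TopDim.dim_le_dim_of_subset hsN).trans hd), zero_add, IntSym.sym_iso k hl e]
    set ξ := i (genericPoint Z) with hξdef
    have hr : Set.range i = closure {ξ} := QCoh.range_eq_closure i
    have hsI : CohB1.support ((Coh.push i).obj I) = closure {ξ} := QCoh.support_push_ideal i ι hI hI0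
    have hξd : topologicalKrullDim ↥(closure ({ξ} : Set X)) ≤ (d : WithBot ℕ∞) := by
      rw [← hsI, ← QCoh.support_iso e hc.1]
      exact (H23.TopDim.dim_le_dim_of_subset (QCoh.support_of_epi hMc.1 hc.1 (cokernel.π φ))).trans hd
    have hO : Coh.IsCoh ((Coh.push i).obj (Coh.structureModule Z)) := QCoh.isCoh_push_structure i
    have hIc : Coh.IsCoh ((Coh.push i).obj I) := QCoh.isCoh_of_mono (e.inv) hc (QCoh.isQCoh_pushforward i hI)
    haveI : Mono ((Coh.push i).map ι) := Functor.map_mono _ ι
    have hK := QCoh.isCoh_cokernel hIc.1 hO ((Coh.push i).map ι)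
    have hKd : HilbPoly.DimLT (cokernel ((Coh.push i).map ι)) d :=
      HilbPoly.dim_lt_closure hξd (QCoh.isClosed_support_of_isFT hK.1 hK.2)
        ((QCoh.support_of_epi hO.1 hK.1 (cokernel.π _)).trans
          (hr ▸ QCoh.support_push_subset i QCoh.isQCoh_structureModule))
        (QCoh.mem_support_push_ideal i ι hI hI0).2
    have h2 := hA.add (ShortComplex.mk ((Coh.push i).map ι) (cokernel.π _) (cokernel.condition _))
      (.mk' (ShortComplex.exact_of_g_is_cokernel _ (cokernelIsCokernel _)) ‹_› inferInstance) hIc hO hK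
    change sym k l ((Coh.push i).obj (Coh.structureModule Z)) = sym k l ((Coh.push i).obj I) +
      sym k l (cokernel ((Coh.push i).map ι)) at h2
    rw [hsmall _ hK hKd, add_zero] at h2
    rw [← h2]
    rcases hξd.lt_or_eq with hlt | heq
    · exact hsmall _ hO (HilbPoly.dimLT_of_subset (hr ▸ QCoh.support_push_subset i QCoh.isQCoh_structureModule) hlt)
    · exact h Z i ((IntSym.dim_eq_of_range i hr).trans heq)

/-- Cutting by a section. -/
theorem cons_section_eq_zero [IsIntegral X] {d : ℕ} (hd : topologicalKrullDim X = ((d + 1 : ℕ) : WithBot ℕ∞))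
    {N : X.Modules} (hN : PicF.IsInvertible N) (τ : Γ(N, ⊤)) (hτ : τ ≠ 0) {l : List X.Modules} (hl : Inv l)
    (h : ∀ Q : X.Modules, Coh.IsCoh Q → topologicalKrullDim ↥(CohB1.support Q) ≤ (d : WithBot ℕ∞) → sym k l Q = 0) :
    sym k (N :: l) (Coh.structureModule X) = 0 := by
  haveI := CurveCohLib.isNoetherian_of_proper (k := k) (X := X)
  let s : Coh.structureModule X ⟶ N := InvX.ofSect τ
  haveI := InvEnd.mono_of_ne_zero InvX.isInvertible_structureModule hN s (fun h0 => hτ (by
    rw [← InvX.one_ofSect τ]
    exact congrArg InvX.one h0))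
  have hO : Coh.IsCoh (Coh.structureModule X) := QCoh.isCoh_structureModule'
  have hNc := AmpleVan.isCoh_invertible hN
  have hQ := QCoh.isCoh_cokernel hO.1 hNc s
  have hadd := (IntSym.additive_sym k hl).add (ShortComplex.mk s (cokernel.π s) (cokernel.condition s))
    (.mk' (ShortComplex.exact_of_g_is_cokernel _ (cokernelIsCokernel s)) ‹_› inferInstance) hO hNc hQ
  change sym k l N = sym k l (Coh.structureModule X) + sym k l (cokernel s) at hadd
  haveI := NakaiMo.isIso_stalk hN s
  have hη : genericPoint X ∉ CohB1.support (cokernel s) := Snapper.notMem_support_cokernel s inferInstance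
  have hlt := H23.TopDim.dim_lt_of_ssubset (X := X) (by rw [hd]; exact WithBot.coe_inj.not.2 (ENat.coe_ne_top _))
    (QCoh.isClosed_support_of_isFT hQ.1 hQ.2) (fun h => hη (h ▸ Set.mem_univ _))
  rw [hd] at hlt
  have hQd : topologicalKrullDim ↥(CohB1.support (cokernel s)) ≤ (d : WithBot ℕ∞) :=
    HilbPoly.le_of_lt_succ (by exact_mod_cast hlt)
  obtain ⟨i₀⟩ : Nonempty (CohB1.tensorMod (Coh.structureModule X) N ≅ N) := cl_eq_iff.1 (by
    rw [cl_tensor, ← H23.PicMul.one_def, one_mul])
  rw [IntSym.sym_cons]
  change sym k l (CohB1.tensorMod (Coh.structureModule X) N) - _ = 0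
  rw [IntSym.sym_iso k hl i₀, hadd, h _ hQ hQd]
  ring

/-- A single subvariety, seen upstairs. -/
theorem sym_self {l : List X.Modules} (hl : Inv l) :
    sym k l ((Coh.push (𝟙 X)).obj (Coh.structureModule X)) = sym k l (Coh.structureModule X) :=
  IntSym.sym_iso k hl ((Scheme.Modules.pushforwardId X).app _)

end Basic

/-- Powers beyond a numerically trivial one are numerically trivial. -/
theorem sym_top_eq_zero (m : ℕ) (j : ℕ) : ∀ (X : Scheme.{u}) [X.Over (Spec (CommRingCat.of k))]
    [IsProper (X ↘ Spec (CommRingCat.of k))] [IsIntegral X], topologicalKrullDim X = ((m + j : ℕ) : WithBot ℕ∞) →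
    ∀ A : X.Modules, CohB1.IsAmple A → ∀ L : X.Modules, PicF.IsInvertible L →
      (∀ (W : Scheme.{u}) (i : W ⟶ X) [IsClosedImmersion i] [IsIntegral W],
        topologicalKrullDim W = (m : WithBot ℕ∞) →
          sym k (List.replicate m L) ((Coh.push i).obj (Coh.structureModule W)) = 0) →
      sym k (List.replicate (m + j) L) (Coh.structureModule X) = 0 := by
  induction j with
  | zero =>
    intro X _ _ _ hd A _ L hL h0
    rw [← sym_self k (inv_replicate hL _)]
    exact h0 X (𝟙 X) hd
  | succ j IH =>
    intro X _ _ _ hd A hA L hL h0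
    haveI := CurveCohLib.isNoetherian_of_proper (k := k) (X := X)
    haveI : X.IsSeparated := AmpleVan.isSeparated_of_proper (A := k)
    have hl := inv_replicate hL (m + j)
    have hlen : (List.replicate (m + j) L).length = m + j := List.length_replicate
    have hQ : ∀ Q : X.Modules, Coh.IsCoh Q → topologicalKrullDim ↥(CohB1.support Q) ≤ ((m + j : ℕ) : WithBot ℕ∞) →
        sym k (List.replicate (m + j) L) Q = 0 := fun Q hQc hQd => by
      refine eq_zero_of_integral k hl hlen (fun Z i _ _ hZ => ?_) hQc hQd
      letI : Z.Over (Spec (CommRingCat.of k)) := ⟨i ≫ (X ↘ Spec (CommRingCat.of k))⟩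
      haveI : IsProper (Z ↘ Spec (CommRingCat.of k)) :=
        show IsProper (i ≫ (X ↘ Spec (CommRingCat.of k))) from inferInstance
      haveI := CurveCohLib.isNoetherian_of_proper (k := k) (X := Z)
      rw [← sym_push k i rfl hl QCoh.isCoh_structureModule', List.map_replicate]
      refine IH Z hZ _ (AmpleVan.isAmple_pullback_of_isEmbedding i i.isClosedEmbedding.isEmbedding hA) _
        (PicClLib.isInvertible_pullback i hL) fun W g _ _ hW => ?_
      haveI := CurveCohLib.isNoetherian_of_proper (k := k) (X := Z)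
      have h1 := sym_push k i rfl (inv_replicate hL m) (QCoh.isCoh_push_structure g)
      rw [List.map_replicate] at h1
      rw [h1]
      exact (IntSym.sym_iso k (inv_replicate hL m)
        ((Scheme.Modules.pushforwardComp g i).app (Coh.structureModule W))).trans (h0 W (g ≫ i) hW)
    have hO : Coh.IsCoh (Coh.structureModule X) := QCoh.isCoh_structureModule'
    have hdimO : topologicalKrullDim ↥(CohB1.support (Coh.structureModule X)) ≤
        (((List.replicate (m + j) L).length + 1 : ℕ) : WithBot ℕ∞) := by
      rw [dim_support_structure, hd, hlen]; exact le_rfl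
    obtain ⟨L', hL', ⟨eL⟩⟩ := H23.PicInv.exists_inverse hL
    obtain ⟨n₁, hn₁⟩ := VolLib.exists_section_twist hA (InvX.isInvertible_structureModule (X := X))
    obtain ⟨n₂, hn₂⟩ := VolLib.exists_section_twist hA hL'
    obtain ⟨τ₁, hτ₁⟩ := hn₁ (n₁ + n₂) (Nat.le_add_right _ _)
    obtain ⟨τ₂, hτ₂⟩ := hn₂ (n₁ + n₂) (Nat.le_add_left _ _)
    have hP := InvX.isInvertible_tensorPow hA.1 (n₁ + n₂)
    have e1 := cons_section_eq_zero k hd (InvX.isInvertible_tensorMod InvX.isInvertible_structureModule hP) τ₁ hτ₁ hl hQ
    have e2 := cons_section_eq_zero k hd (InvX.isInvertible_tensorMod hL' hP) τ₂ hτ₂ hl hQ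
    rw [IntSym.sym_tensor_head k InvX.isInvertible_structureModule hP hl hO hdimO,
      IntSym.sym_structure_head k hl, zero_add] at e1
    obtain ⟨eL'⟩ : Nonempty (CohB1.tensorMod L' L ≅ Coh.structureModule X) :=
      cl_eq_iff.1 (by rw [cl_tensor, mul_comm, ← cl_tensor]; exact cl_eq_iff.2 ⟨eL⟩)
    rw [IntSym.sym_tensor_head k hL' hP hl hO hdimO, e1, add_zero,
      IntSym.sym_inverse_head k hL' hL eL' hl hO hdimO] at e2
    rw [← Nat.add_assoc, List.replicate_succ]
    linarith

end Groth.Agent.BigMono
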